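import Cfsg.Agent.WfT.Def

/-! Type free wreath theorem: basic API. -/

set_option autoImplicit false
set_option linter.unusedSectionVars false

namespace Cfsg.Agent.WfT

open Subgroup Cfsg.Agent.PLocal.Amb Cfsg.Agent.Wr Cfsg.Agent.WfS
open scoped commutatorElement

variable {G : Type*} [Group G] [Finite G] {L M S E P : Subgroup G} {t z z' w g k n s x y a b : G}

theorem Loc.cj (h : Loc L P) (g : G) : Loc cj(g, L) cj(g, P) := by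
  refine ⟨fun x => ?_, ?_, ?_, ?_, ?_, fun V => ?_, ?_⟩
  · obtain ⟨x, rfl⟩ := ex_conj g x
    simp only [← cj_inf, Zt_cj, centralizer_cj, conj_mem_cj_iff]
    intro hx hc
    obtain ⟨z, hz, e⟩ := h.c1 x hx hc
    exact ⟨_, conj_mem_cj g hz, by rw [conj_mul]; exact conj_mem_cj g e⟩
  · simp only [← cj_inf, Zt_cj, commutator_cj, cj_le_cj_iff]
    exact h.c2
  · obtain ⟨A, h1, h2, h3, h4⟩ := h.h4
    refine ⟨cj(g, A), by rw [← cj_inf]; exact cj_mono g h1, fun a ha => ?_,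
      by rw [normalizer_cj]; exact cj_mono g h3, by rwa [card_cj]⟩
    obtain ⟨b, hb, rfl⟩ := mem_cj_iff_exists.1 ha
    exact conj_sq (h2 b hb)
  · simp only [← cj_inf, ← cj_sup, centralizer_cj, commutator_cj, cj_le_cj_iff]
    exact h.ab
  · obtain ⟨N, h1, h2⟩ := h.zf
    refine ⟨cj(g, N), by rwa [← cj_inf, commutator_cj, cj_le_cj_iff], fun F => ?_⟩
    obtain ⟨F, rfl⟩ : ∃ F', F = cj(g, F') := ⟨_, (cj_cj_inv g F).symm⟩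
    simp only [← cj_inf, Zt_cj, normalizer_cj, cj_le_cj_iff]
    exact h2 _
  · obtain ⟨V, rfl⟩ : ∃ F', V = cj(g, F') := ⟨_, (cj_cj_inv g V).symm⟩
    simp only [← cj_inf, ← cj_sup, Zt_cj, centralizer_cj, normalizer_cj, cj_le_cj_iff, lt_iff_le_not_ge]
    simpa only [lt_iff_le_not_ge] using h.c3 V
  · simp only [← cj_inf, centralizer_cj, commutator_cj, cj_le_cj_iff]
    exact h.mu

namespace Wf
variable (h : Wf L M t)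
include h

theorem inv : t⁻¹ = t := inv_eq_of_sq h.tt
theorem tM : cj(t, M) = L := by rw [← h.tL, ← cj_mul, h.tt, cj_one]
theorem comm (ha : a ∈ L) (hb : b ∈ M) : a * b = b * a := mem_C.1 (h.com hb) a ha
theorem com' : L ≤ 𝐂[M] := fun _ ha => mem_C.2 fun _ hb => (h.comm ha hb).symm
theorem MN : M ≤ 𝐍[L] := h.com.trans (centralizer_le_normalizer' L)
theorem tG : t ∈ G1 L M := cj_eq_iff.1 (by rw [cj_sup, h.tL, h.tM, sup_comm])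
theorem LG : L ≤ G1 L M := le_sup_left.trans le_normalizer
theorem MG : M ≤ G1 L M := le_sup_right.trans le_normalizer
theorem ne' : L ≠ M :=
  fun e => h.ne (h.perf.symm.trans
    (commutator_eq_bot_iff_le_centralizer.2 (e.le.trans h.com)))
theorem tN : t ∉ 𝐍[L] := fun e => h.ne' ((cj_eq_iff.2 e).symm.trans h.tL)
theorem perf' : ⁅M, M⁆ = M := by rw [← h.tL, commutator_cj, h.perf]
theorem qs' (K : Subgroup G) (h1 : K ≤ M) (h2 : M ≤ 𝐍[K]) : K ≤ 𝐂[M] ∨ K = M := by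
  rw [← cj_cj_inv t K, ← h.tL] at h1 h2 ⊢
  rw [normalizer_cj, cj_le_cj_iff] at h2
  rw [centralizer_cj, cj_le_cj_iff, cj_inj]
  exact h.qs _ (cj_le_cj_iff.1 h1) h2
theorem eq_or {K : Subgroup G} (h1 : K ≤ L ⊔ M) (h2 : L ⊔ M ≤ 𝐍[K]) (c : Nat.card K = Nat.card L)
    (p : ⁅K, K⁆ = K) : K = L ∨ K = M := by
  rcases dich h.perf h.qs (h1.trans (sup_le le_normalizer h.MN)) (le_sup_left.trans h2) with e | e
  · exact .inl (eq_of_le_of_card_ge e c.le).symm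
  rcases dich h.perf' h.qs' (h1.trans (sup_le (h.com'.trans (centralizer_le_normalizer' M))
    le_normalizer)) (le_sup_right.trans h2) with e' | e'
  · exact .inr (eq_of_le_of_card_ge e' (by rw [c, ← h.tL, card_cj])).symm
  have h3 : K ≤ 𝐂[K] := (le_inf e e').trans ((PLocal.Amb.centralizer_sup L M).ge.trans
    (centralizer_anti h1))
  rw [commutator_eq_bot_iff_le_centralizer.2 h3] at p
  rw [← p, card_bot] at c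
  exact absurd (card_eq_one.1 c.symm) h.ne
theorem perm (hg : g ∈ G1 L M) :
    (g ∈ 𝐍[L] ∧ g ∈ 𝐍[M]) ∨ (cj(g, L) = M ∧ cj(g, M) = L) := by
  have k : ∀ K, K ≤ L ⊔ M → L ⊔ M ≤ 𝐍[K] → Nat.card K = Nat.card L → ⁅K, K⁆ = K →
      cj(g, K) = L ∨ cj(g, K) = M := fun K h1 h2 c p => h.eq_or (cj_le_of_mem_normalizer h1 hg)
    (by rw [normalizer_cj, ← cj_eq_iff.2 hg]; exact cj_mono g h2) (by rw [card_cj, c])
    (by rw [commutator_cj, p])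
  have h3 : cj(g, L) ≠ cj(g, M) := fun e => h.ne' (cj_inj.1 e)
  rcases k L le_sup_left (sup_le le_normalizer h.MN) rfl h.perf with e | e <;>
  rcases k M le_sup_right (sup_le (h.com'.trans (centralizer_le_normalizer' M)) le_normalizer)
    (by rw [← h.tL, card_cj]) h.perf' with e' | e'
  exacts [absurd (e.trans e'.symm) h3, .inl ⟨cj_eq_iff.1 e, cj_eq_iff.1 e'⟩, .inr ⟨e, e'⟩,
    absurd (e.trans e'.symm) h3]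
theorem norm' (hg : g ∈ G1 L M) : g ∈ 𝐍[M] ↔ g ∈ 𝐍[L] := by
  rcases h.perm hg with e | e
  · exact iff_of_true e.2 e.1
  · exact iff_of_false (fun c => h.ne' (e.2.symm.trans (cj_eq_iff.2 c)))
      fun c => h.ne' ((cj_eq_iff.2 c).symm.trans e.1)
theorem swap (hg : g ∈ G1 L M) (hn : g ∉ 𝐍[L]) : cj(g, L) = M ∧ cj(g, M) = L :=
  (h.perm hg).resolve_left fun e => hn e.1
theorem symm : Wf M L t := by
  refine ⟨h.tt, h.tM, h.com', h.perf', fun e => h.ne (cj_eq_bot.1 (h.tL.trans e)), h.qs',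
    fun k hk k2 c => h.k0 k ?_ k2 c, fun g h1 h2 => ?_, fun P h1 h2 h3 => ?_⟩
  · rw [← h.tM, centralizer_cj, ← conj_eq_iff.2 c.symm]
    exact conj_mem_cj t hk
  · rw [G1_comm] at h1 ⊢
    exact h.home g h1 fun e => h2 ((h.norm' h1).2 e)
  · have := (h.loc cj(t, P) (isPGroup_cj t h1) (by rw [← h.tM, normalizer_cj]; exact cj_mono t h2)
      (by rw [← h.tM, ← cj_inf]; exact h3.cj t)).cj t
    rwa [h.tL, ← cj_mul, h.tt, cj_one] at this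
theorem mul_sw (ha : a ∈ G1 L M) (hb : b ∈ G1 L M) (na : a ∉ 𝐍[L]) (nb : b ∉ 𝐍[L]) :
    a * b ∈ 𝐍[L] := cj_eq_iff.1 (by rw [cj_mul, (h.swap hb nb).1, (h.swap ha na).2])
theorem sq_mem (ha : a ∈ G1 L M) : a * a ∈ 𝐍[L] := by
  by_cases c : a ∈ 𝐍[L]
  exacts [mul_mem c c, h.mul_sw ha ha c c]
theorem conj_iff (hg : g ∈ G1 L M) (hx : x ∈ G1 L M) : g * x * g⁻¹ ∈ 𝐍[L] ↔ x ∈ 𝐍[L] := by
  rw [← conj_mem_cj_iff (g := g) (x := x), ← normalizer_cj]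
  rcases h.perm hg with e | e
  · rw [cj_eq_iff.2 e.1]
  · rw [e.1, h.norm' (mul_mem (mul_mem hg hx) (inv_mem hg))]
theorem comm_mem (ha : a ∈ G1 L M) (hb : b ∈ G1 L M) : a * b * a⁻¹ * b⁻¹ ∈ 𝐍[L] := by
  by_cases c : b ∈ 𝐍[L]
  · exact mul_mem ((h.conj_iff ha hb).2 c) (inv_mem c)
  · exact h.mul_sw (mul_mem (mul_mem ha hb) (inv_mem ha)) (inv_mem hb)
      (fun e => c ((h.conj_iff ha hb).1 e)) fun e => c (inv_mem_iff.1 e)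
/-- an element of `G1` normalising `E ≤ G1` normalises `E⁰` -/
theorem norm0 (hE : E ≤ G1 L M) (hn : n ∈ G1 L M) (h1 : n ∈ 𝐍[E]) : n ∈ 𝐍[E ⊓ 𝐍[L]] :=
  mem_normalizer_of_cj_le (cj_le_iff_forall.2 fun _ he =>
    ⟨conj_mem_of_mem_normalizer h1 he.1, (h.conj_iff hn (hE he.1)).2 he.2⟩)
theorem inf_eq (hE : E ≤ G1 L M) : E ⊓ 𝐍[M] = E ⊓ 𝐍[L] :=
  Subgroup.ext fun _ => and_congr_right fun he => h.norm' (hE he)
theorem two_one (h1 : x ∈ 𝐂[L]) (h2 : x ∈ 𝐂[M]) {m : ℕ} (hx : x ^ 2 ^ m = 1) : x = 1 := by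
  obtain ⟨T, hT, -, hn⟩ := exists_inv_syl (Y := 𝐂[L] ⊓ 𝐂[M]) h.tt (cj_eq_iff.1 (by
    rw [cj_inf, ← centralizer_cj, ← centralizer_cj, h.tL, h.tM, inf_comm])) IsPGroup.of_bot bot_le
    (cj_eq_iff.1 (cj_bot t))
  have e : T = ⊥ := by_contra fun c => by
    obtain ⟨v, hv, v1, v2⟩ := exists_inv (hT.pgrp.to_le inf_le_left)
      (inf_centralizer_ne_bot (StdL.isPGroup_zp h.tt) hT.pgrp (zpowers_le_of_mem hn) c)
    exact v1 (h.k0 v (hT.le hv.1).1 v2 (mem_C.1 hv.2 t (mem_zpowers t)).symm)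
  exact mem_bot.1 (e.le (hT.max _ (isPGroup_zpowers ⟨m, hx⟩) (e.le.trans bot_le)
    (zpowers_le_of_mem ⟨h1, h2⟩) (mem_zpowers x)))
/-- an element of `G1` commuting with a `2`-element `1 ≠ y` of `C(L)` or `C(M)` does not swap -/
theorem cen_z (hs : s ∈ G1 L M) (hy : y ∈ 𝐂[L] ∨ y ∈ 𝐂[M]) {m : ℕ} (h2 : y ^ 2 ^ m = 1) (y1 : y ≠ 1)
    (c : s * y = y * s) : s ∈ 𝐍[L] := by
  by_contra hn
  obtain ⟨e1, e2⟩ := h.swap hs hn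
  have k : ∀ A : Subgroup G, y ∈ 𝐂[A] → y ∈ 𝐂[cj(s, A)] := fun A hA => by
    rw [centralizer_cj, ← conj_eq_iff.2 c]
    exact conj_mem_cj s hA
  rcases hy with hy | hy
  exacts [y1 (h.two_one hy (e1 ▸ k L hy) h2), y1 (h.two_one (e2 ▸ k M hy) hy h2)]
theorem sylL (hS : IsSyl 2 S (G1 L M)) : IsSyl 2 (S ⊓ L) L := by
  have h1 : L ≤ G1 L M ⊓ 𝐍[L] := le_inf h.LG le_normalizer
  have := (hS.inf_of_le inf_le_left fun n hn => h.norm0 le_rfl hn (le_normalizer hn)).inf_of_le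
    h1 inf_le_right
  rwa [inf_assoc, inf_eq_right.2 h1] at this
theorem locS (hS : IsSyl 2 S (G1 L M)) (h1 : S ⊓ L ≤ P) (h2 : P ≤ S ⊓ 𝐍[L]) :
    Loc L P ∧ P ⊓ L = S ⊓ L := by
  have e : P ⊓ L = S ⊓ L :=
    le_antisymm (inf_le_inf_right _ (h2.trans inf_le_left)) (le_inf h1 inf_le_right)
  exact ⟨h.loc P (hS.pgrp.to_le (h2.trans inf_le_left)) (h2.trans inf_le_right)
    (e ▸ h.sylL hS), e⟩
theorem exists_cx {R : Subgroup G} (hR : IsPGroup 2 R) (h1 : R ≤ G1 L M) (h2 : t ∈ R) :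
    ∃ S z z' w, Cx L M t S z z' w ∧ R ≤ S := by
  obtain ⟨S, hS, hRS⟩ := exists_isSyl_ge hR h1
  obtain ⟨hl, e⟩ := h.locS hS (inf_le_inf_left _ le_normalizer) le_rfl
  obtain ⟨A, a1, a2, a3, a4⟩ := hl.h4
  have hP : IsPGroup 2 ↥(S ⊓ 𝐍[L]) := hS.pgrp.to_le inf_le_left
  have a5 : A ≤ S ⊓ 𝐍[L] := a1.trans inf_le_left
  obtain ⟨⟨z, hz, zc⟩, z1⟩ := ne_bot_iff_exists_ne_one.1 (inf_centralizer_ne_bot hP (hP.to_le a5) a3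
    fun c => by rw [c, card_bot] at a4; omega)
  replace z1 : z ≠ 1 := fun c => z1 (Subtype.ext c)
  have o : orderOf z = 2 := orderOf_eq_prime (by rw [sq, a2 z hz]) z1
  have := hP.isNilpotent
  have := normal_subgroupOf' a3
  obtain ⟨w, hw, w1, wc⟩ := Grp.PChain.exists_central_mod (A.subgroupOf (S ⊓ 𝐍[L]))
    ((zpowers z).subgroupOf _) fun c => by
      have := card_le_of_le (show A ≤ zpowers z from fun a ha => c (x := ⟨a, a5 ha⟩) ha)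
      rw [Nat.card_zpowers, o] at this
      omega
  refine ⟨S, z, _, w, ⟨h, hS, hRS h2, e.le (a1 hz), z1, a2 z hz,
    fun p hp => conj_eq_iff.2 (mem_C.1 zc p hp), rfl, e.le (a1 hw), fun c => w1 ?_, a2 _ hw,
    fun c => w1 ?_, fun p hp => ?_⟩, hRS⟩
  · exact mem_subgroupOf.2 (c ▸ one_mem _)
  · exact mem_subgroupOf.2 (c ▸ mem_zpowers z)
  · have h3 : w.1 * p * w.1⁻¹ * p⁻¹ ∈ zpowers z := wc ⟨p, hp⟩
    have w2 : w.1 * w.1 = 1 := a2 _ hw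
    have h4 : p * w.1 * p⁻¹ = w.1 * (w.1 * p * w.1⁻¹ * p⁻¹) := by
      rw [inv_eq_of_sq w2, ← mul_assoc, ← mul_assoc, ← mul_assoc, w2, one_mul]
    obtain ⟨k, hk⟩ := (mem_powers_iff_mem_zpowers).2 h3
    rw [h4, ← hk]
    rcases Nat.even_or_odd' k with ⟨i, rfl | rfl⟩
    · left; simp only [pow_mul, sq, a2 z hz, one_pow, mul_one]
    · right; simp only [pow_succ, pow_mul, pow_zero, one_mul, a2 z hz, one_pow]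
theorem G1_Pm (hn : n ∈ G1 L M) (h1 : n ∈ 𝐍[E ⊓ 𝐍[L]]) : n ∈ Pm L M E := by
  have e1 : E ⊓ L = E ⊓ 𝐍[L] ⊓ L := by rw [inf_assoc, inf_eq_right.2 le_normalizer]
  have e2 : E ⊓ M = E ⊓ 𝐍[L] ⊓ M := by rw [inf_assoc, inf_eq_right.2 h.MN]
  refine mem_Pm.2 ⟨h1, (h.perm hn).imp (fun e => ?_) fun e => ?_⟩
  · rw [e1, e2]; exact ⟨ninf h1 e.1, ninf h1 e.2⟩
  · rw [e1, e2, cj_inf n _ L, cj_inf n _ M, cj_eq_iff.2 h1, e.1, e.2]; exact ⟨rfl, rfl⟩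
theorem C_Pm : 𝐂[E ⊓ 𝐍[L]] ≤ Pm L M E :=
  fun _ hn => mem_Pm.2 ⟨centralizer_le_normalizer' _ hn, .inl
    ⟨centralizer_le_normalizer' _ (centralizer_anti (inf_le_inf_left _ le_normalizer) hn),
      centralizer_le_normalizer' _ (centralizer_anti (inf_le_inf_left _ h.MN) hn)⟩⟩
theorem Pm_symm (hE : E ≤ G1 L M) : Pm M L E = Pm L M E := by
  ext n
  rw [mem_Pm, mem_Pm, h.inf_eq hE]
  tauto
theorem Tau_mul (hk : k ∈ G1 L M) (hE : E ≤ cj(g, G1 L M)) :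
    Tau L M E (g * k) = Tau L M E g := by
  rw [Tau, Tau, cj_mul, cj_mul]
  rcases h.perm hk with e | e
  · rw [cj_eq_iff.2 e.1, cj_eq_iff.2 e.2]
  · rw [e.1, e.2, Sym2.eq_swap, normalizer_cj, normalizer_cj]
    congr 1
    exact Subgroup.ext fun x => and_congr_right fun hx => by
      simp only [SetLike.mem_coe, mem_toSubmonoid, mem_cj]
      exact h.norm' (mem_cj.1 (hE hx))

end Wf

namespace Cx
variable (h : Cx L M t S z z' w)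
include h

theorem SG : S ≤ G1 L M := h.syl.le
theorem pow (hx : x ∈ S) : ∃ m : ℕ, x ^ 2 ^ m = 1 := isPGroup_iff.1 h.syl.pgrp x hx
theorem S0 : S ⊓ 𝐍[M] = S ⊓ 𝐍[L] := h.toWf.inf_eq h.SG
theorem tz' : t * z' * t⁻¹ = z := by
  rw [← h.tz, show t * (t * z * t⁻¹) * t⁻¹ = t * t * z * (t * t)⁻¹ by group, h.tt]; group
theorem symm : Cx M L t S z' z (t * w * t⁻¹) := by
  have k : ∀ x ∈ S ⊓ L, t * x * t⁻¹ ∈ S ⊓ M := fun x hx =>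
    mem_inf.2 ⟨mul_mem (mul_mem h.tS hx.1) (inv_mem h.tS), h.tL ▸ conj_mem_cj t hx.2⟩
  have k' : ∀ p ∈ S ⊓ 𝐍[M], ∃ q ∈ S ⊓ 𝐍[L], ∀ x, p * (t * x * t⁻¹) * p⁻¹ = t * (q * x * q⁻¹) * t⁻¹ :=
    fun p hp => ⟨t⁻¹ * p * t⁻¹⁻¹,
      mem_inf.2 ⟨mul_mem (mul_mem (inv_mem h.tS) hp.1) (inv_mem (inv_mem h.tS)),
        (h.toWf.conj_iff (inv_mem h.toWf.tG) (h.SG hp.1)).2 (h.S0.le hp).2⟩, fun x => by group⟩
  refine ⟨h.toWf.symm, G1_comm L M ▸ h.syl, h.tS, h.tz ▸ k z h.zT,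
    fun e => h.z1 (by rw [← h.tz', e]; group), h.tz ▸ conj_sq h.zz, fun p hp => ?_, h.tz',
    k w h.wT, fun e => h.w1 (conj_inj (e.trans (by group))), conj_sq h.ww,
    fun e => h.wz (conj_inj (e.trans h.tz.symm)), fun p hp => ?_⟩
  · obtain ⟨q, hq, e⟩ := k' p hp
    rw [← h.tz, e, h.zS q hq]
  · obtain ⟨q, hq, e⟩ := k' p hp
    rw [← h.tz, e, conj_mul]
    exact (h.wS q hq).imp (fun e => by rw [e]) fun e => by rw [e]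
theorem syl1 : IsSyl 2 (S ⊓ L) L := h.toWf.sylL h.syl
theorem one (hx : x ∈ S) (h1 : x ∈ 𝐂[L]) (h2 : x ∈ 𝐂[M]) : x = 1 :=
  let ⟨_, e⟩ := h.pow hx; h.toWf.two_one h1 h2 e
theorem cen (hs : s ∈ G1 L M) (hy : y ∈ S) (hc : y ∈ 𝐂[L] ∨ y ∈ 𝐂[M]) (y1 : y ≠ 1)
    (c : s * y = y * s) : s ∈ 𝐍[L] := let ⟨_, e⟩ := h.pow hy; h.toWf.cen_z hs hc e y1 c
theorem T0 : S ⊓ L ≤ S ⊓ 𝐍[L] := inf_le_inf_left _ le_normalizer
theorem T0' : S ⊓ M ≤ S ⊓ 𝐍[L] := inf_le_inf_left _ h.toWf.MN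
theorem nT : S ⊓ 𝐍[L] ≤ 𝐍[S ⊓ L] :=
  le_normalizer_inf (inf_le_left.trans le_normalizer) inf_le_right
theorem nT' : S ⊓ 𝐍[L] ≤ 𝐍[S ⊓ M] := h.S0 ▸ h.symm.nT
theorem sT (hs : s ∈ S) (hn : s ∉ 𝐍[L]) : cj(s, S ⊓ L) = S ⊓ M ∧ cj(s, S ⊓ M) = S ⊓ L := by
  rw [cj_inf, cj_inf, cj_of_mem hs, (h.toWf.swap (h.SG hs) hn).1, (h.toWf.swap (h.SG hs) hn).2]
  exact ⟨rfl, rfl⟩
theorem locP (h1 : S ⊓ L ≤ P) (h2 : P ≤ S ⊓ 𝐍[L]) : Loc L P ∧ P ⊓ L = S ⊓ L :=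
  h.toWf.locS h.syl h1 h2
theorem c1 (hx : x ∈ S ⊓ 𝐍[L]) (hc : x ∈ 𝐂[S ⊓ L]) : ∃ a ∈ Zt (S ⊓ L), x * a ∈ 𝐂[L] :=
  let ⟨l, e⟩ := h.locP h.T0 le_rfl; e ▸ l.c1 x hx (e.symm ▸ hc)
theorem c2 : Zt (S ⊓ L) ≤ ⁅S ⊓ L, S ⊓ L⁆ := let ⟨l, e⟩ := h.locP h.T0 le_rfl; e ▸ l.c2
theorem zf : ∃ N₀, ¬ ⁅S ⊓ L, S ⊓ L⁆ ≤ N₀ ∧
    ∀ F ≤ S ⊓ 𝐍[L], S ⊓ L ≤ 𝐍[F] → F ≤ N₀ ∨ Zt (S ⊓ L) ≤ F :=
  let ⟨l, e⟩ := h.locP h.T0 le_rfl; e ▸ l.zf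
theorem c3 {V : Subgroup G} (h1 : V ≤ S ⊓ L) (h2 : S ⊓ L ≤ 𝐍[V]) (h3 : ¬ V < Zt (S ⊓ L)) :
    S ⊓ 𝐍[L] ⊓ 𝐂[V] ≤ (S ⊓ L) ⊔ 𝐂[L] :=
  let ⟨l, e⟩ := h.locP h.T0 le_rfl; e ▸ l.c3 V (e.symm ▸ h1) (e.symm ▸ h2) (e.symm ▸ h3)
theorem ab : ⁅S ⊓ 𝐍[L], S ⊓ 𝐍[L]⁆ ≤ (S ⊓ L) ⊔ 𝐂[L] :=
  let ⟨l, e⟩ := h.locP h.T0 le_rfl; e ▸ l.ab
theorem dec (hx : x ∈ (S ⊓ L) ⊔ 𝐂[L]) : ∃ a ∈ S ⊓ L, ∃ c ∈ 𝐂[L], x = a * c := by
  obtain ⟨a, ha, c, hc, rfl⟩ := (mem_sup_of_le_normalizer_left ((centralizer_anti inf_le_right).trans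
    (centralizer_le_normalizer' _))).1 hx
  exact ⟨a, ha, c, hc, rfl⟩
theorem abS : ⁅S ⊓ 𝐍[L], S ⊓ 𝐍[L]⁆ ≤ (S ⊓ L) ⊔ (S ⊓ M) := fun x hx => by
  obtain ⟨a, ha, c, hc, e⟩ := h.dec (h.ab hx)
  obtain ⟨b, hb, d, hd, e'⟩ := h.symm.dec (h.symm.ab (h.S0.symm ▸ hx))
  have xS : x ∈ S := (commutator_le_self _ hx).1
  have := h.one (x := a⁻¹ * x * b⁻¹) (mul_mem (mul_mem (inv_mem ha.1) xS) (inv_mem hb.1))
    (by rw [e, inv_mul_cancel_left]; exact mul_mem hc (inv_mem (h.com hb.2)))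
    (by rw [e', mem_C.1 hd b hb.2, mul_assoc, mul_inv_cancel_right]
        exact mul_mem (inv_mem (h.toWf.com' ha.2)) hd)
  rw [show x = a * (a⁻¹ * x * b⁻¹) * b by group, this, mul_one]
  exact mul_mem_sup ha hb
/-- the replacement of `WfS.Cx.zf` -/
theorem spl {F F' : Subgroup G} (h1 : F ≤ S ⊓ 𝐍[L]) (h1' : F' ≤ S ⊓ 𝐍[L]) (h2 : S ⊓ L ≤ 𝐍[F])
    (h2' : S ⊓ L ≤ 𝐍[F']) (d : ∀ x ∈ F, x ∈ F' → x = 1) (h3 : ⁅S ⊓ L, S ⊓ L⁆ ≤ F ⊔ F') :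
    (Zt (S ⊓ L) ≤ F ∧ F' ≤ 𝐂[S ⊓ L]) ∨ (Zt (S ⊓ L) ≤ F' ∧ F ≤ 𝐂[S ⊓ L]) := by
  have k : ∀ A B : Subgroup G, B ≤ S ⊓ 𝐍[L] → S ⊓ L ≤ 𝐍[B] → (∀ x ∈ A, x ∈ B → x = 1) →
      Zt (S ⊓ L) ≤ A → B ≤ 𝐂[S ⊓ L] := fun A B b1 b2 d e => by
    have p : IsPGroup 2 (S ⊓ L : Subgroup G) := h.syl.pgrp.to_le inf_le_left
    have e0 : B ⊓ (S ⊓ L) = ⊥ := by_contra fun c =>
      inf_centralizer_ne_bot p (p.to_le inf_le_right) (le_normalizer_inf b2 le_normalizer) c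
        (eq_bot_iff.2 fun x hx => mem_bot.2 (d x (e ⟨hx.1.2, hx.2⟩) hx.1.1))
    rw [← commutator_eq_bot_iff_le_centralizer, eq_bot_iff, ← e0]
    exact le_inf (le_normalizer_iff_commutator_le_left.1 b2)
      (le_normalizer_iff_commutator_le_right.1 (b1.trans h.nT))
  obtain ⟨N, n1, n2⟩ := h.zf
  rcases n2 F h1 h2 with r | r
  · have r' := (n2 F' h1' h2').resolve_left fun r' => n1 (h3.trans (sup_le r r'))
    exact .inr ⟨r', k F' F h1 h2 (fun x a b => d x b a) r'⟩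
  · exact .inl ⟨r, k F F' h1' h2' d r⟩
theorem card3 : 2 < Nat.card (S ⊓ L : Subgroup G) :=
  let ⟨l, e⟩ := h.locP h.T0 le_rfl
  let ⟨_, a1, _, _, a4⟩ := l.h4
  a4.trans_le (card_le_of_le (a1.trans e.le))
theorem zZ : z ∈ Zt (S ⊓ L) := ⟨h.zT, mem_C.2 fun x hx => conj_eq_iff.1 (h.zS x (h.T0 hx))⟩
theorem zs0 (hs : s ∈ S) (hn : s ∉ 𝐍[L]) : s * z * s⁻¹ = z' := by
  have := h.zS (t⁻¹ * s) (mem_inf.2 ⟨mul_mem (inv_mem h.tS) hs, h.toWf.mul_sw (inv_mem h.toWf.tG)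
    (h.SG hs) (fun e => h.toWf.tN (inv_mem_iff.1 e)) hn⟩)
  rw [← h.tz, ← congrArg (t * · * t⁻¹) this]; group
theorem zs (hs : s ∈ S) (hn : s ∉ 𝐍[L]) : s * z * s⁻¹ = z' ∧ s * z' * s⁻¹ = z :=
  ⟨h.zs0 hs hn, h.symm.zs0 hs fun e => hn ((h.toWf.norm' (h.SG hs)).1 e)⟩
theorem zS' (hs : s ∈ S ⊓ 𝐍[L]) : s * z' * s⁻¹ = z' := h.symm.zS s (h.S0.ge hs)
theorem zz' : z * z' = z' * z := h.toWf.comm h.zT.2 h.symm.zT.2
theorem zz1 : z * z' ≠ 1 :=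
  fun e => h.z1 (h.one h.zT.1 (by
    rw [eq_inv_of_mul_eq_one_left e]; exact inv_mem (h.com h.symm.zT.2)) (h.toWf.com' h.zT.2))
theorem zzS (hs : s ∈ S) : s * (z * z') * s⁻¹ = z * z' := by
  rw [← conj_mul]
  by_cases c : s ∈ 𝐍[L]
  · rw [h.zS s ⟨hs, c⟩, h.zS' ⟨hs, c⟩]
  · rw [(h.zs hs c).1, (h.zs hs c).2, h.zz']
/-- `C_S(z) = S⁰` -/
theorem cz (hs : s ∈ S) : s * z = z * s ↔ s ∈ 𝐍[L] :=
  ⟨fun e => by_contra fun c => h.zz1 (by rw [← h.zs0 hs c, conj_eq_iff.2 e, h.zz]),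
    fun c => conj_eq_iff.1 (h.zS s ⟨hs, c⟩)⟩
/-- `[s, z] ∈ {1, z z'}` -/
theorem zcom (hs : s ∈ S) : s * z * s⁻¹ = z ∨ s * z * s⁻¹ = z * (z * z') := by
  by_cases c : s ∈ 𝐍[L]
  · exact .inl (h.zS s ⟨hs, c⟩)
  · exact .inr (by rw [h.zs0 hs c, ← mul_assoc, h.zz, one_mul])
theorem cU (hx : x ∈ S ⊓ 𝐍[L]) (h1 : x ∈ 𝐂[S ⊓ L]) (h2 : x ∈ 𝐂[S ⊓ M]) :
    ∃ a ∈ Zt (S ⊓ L), ∃ b ∈ Zt (S ⊓ M), x = a * b := by
  obtain ⟨a, ha, e⟩ := h.c1 hx h1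
  obtain ⟨b, hb, e'⟩ := h.symm.c1 (h.S0.ge hx) h2
  have c := h.toWf.comm ha.1.2 hb.1.2
  have := h.one (mul_mem (mul_mem hx.1 ha.1.1) hb.1.1) (mul_mem e (h.com hb.1.2))
    (by rw [mul_assoc, c, ← mul_assoc]; exact mul_mem e' (h.toWf.com' ha.1.2))
  exact ⟨_, inv_mem ha, _, inv_mem hb, by
    rw [← mul_inv_rev, ← c]; exact eq_inv_of_mul_eq_one_left (by rwa [← mul_assoc])⟩
/-- a subgroup of `S⁰` centralising `T₂` has its derived group in `C(M)` -/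
theorem der {F : Subgroup G} (h1 : F ≤ S ⊓ 𝐍[L]) (h2 : F ≤ 𝐂[S ⊓ M]) : ⁅F, F⁆ ≤ 𝐂[M] := by
  refine commutator_le.2 fun x hx y hy => ?_
  obtain ⟨b, hb, e⟩ := h.symm.c1 (h.S0.ge (h1 hx)) (h2 hx)
  obtain ⟨d, hd, e'⟩ := h.symm.c1 (h.S0.ge (h1 hy)) (h2 hy)
  have c1 : b * (y * d) * b⁻¹ = y * d := conj_eq_iff.2 (by
    rw [← mul_assoc, mem_C.1 (h2 hy) b hb.1, mul_assoc, mem_C.1 hd.2 b hb.1, mul_assoc])
  have c2 : x * d * x⁻¹ = d := conj_eq_iff.2 (mem_C.1 (h2 hx) d hd.1).symm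
  convert mul_mem (mul_mem (mul_mem e e') (inv_mem e)) (inv_mem e') using 1
  rw [show x * b * (y * d) * (x * b)⁻¹ = x * (b * (y * d) * b⁻¹) * x⁻¹ by group, c1, ← conj_mul, c2,
    commutatorElement_def]
  group
theorem exists_x1 (hE : E ≤ S) (hn : ¬ S ⊓ L ≤ E) : ∃ x ∈ S ⊓ L, x ∉ E ∧ x * x ∈ E ∧
    ∀ e ∈ E ⊓ 𝐍[L], x * e * x⁻¹ * e⁻¹ ∈ E ⊓ L := by
  have h1 : E ⊓ 𝐍[L] ≤ S ⊓ 𝐍[L] := inf_le_inf_right _ hE
  obtain ⟨y, ⟨hy, yn⟩, y1⟩ := SetLike.exists_of_lt (lt_inf_normalizer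
    (h.syl.pgrp.to_le (sup_le (inf_le_left.trans hE) inf_le_left))
    (show E ⊓ 𝐍[L] < E ⊓ 𝐍[L] ⊔ S ⊓ L from
      lt_of_le_of_ne le_sup_left fun e => hn (le_sup_right.trans (e.ge.trans inf_le_left))))
  obtain ⟨e, he, x, hx, rfl⟩ := (mem_sup_of_le_normalizer_right (h1.trans h.nT)).1 hy
  obtain ⟨m, hm⟩ := h.pow hx.1
  obtain ⟨j, h2, h3⟩ := last_pow (fun c => y1 (mul_mem he ⟨c, le_normalizer hx.2⟩))
    (hm ▸ one_mem E)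
  have h4 := pow_mem ((Subgroup.mul_mem_cancel_left _ (le_normalizer he)).1 yn) j
  refine ⟨_, pow_mem hx j, h2, h3, fun f hf =>
    mem_inf.2 ⟨mul_mem (conj_mem_of_mem_normalizer h4 hf).1 (inv_mem hf.1), ?_⟩⟩
  simpa only [mul_assoc] using L.mul_mem (pow_mem hx.2 j)
    (conj_mem_of_mem_normalizer hf.2 (inv_mem (pow_mem hx.2 j)))
/-- the element `x x^s` -/
theorem x12 (hE : E ≤ S) (hs : s ∈ E) (hn : s ∉ 𝐍[L]) (hx : x ∈ S ⊓ L) (h2 : x * x ∈ E)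
    (hc : ∀ e ∈ E ⊓ 𝐍[L], x * e * x⁻¹ * e⁻¹ ∈ E ⊓ L) :
    (∀ e ∈ E, x * (s * x * s⁻¹) * e * (x * (s * x * s⁻¹))⁻¹ * e⁻¹ ∈ (E ⊓ L) ⊔ (E ⊓ M)) ∧
    x * (s * x * s⁻¹) * (x * (s * x * s⁻¹)) ∈ E ∧ (x * (s * x * s⁻¹) ∈ E → x ∈ 𝐍[E]) ∧
    ∀ e ∈ E ⊓ 𝐍[L], s * x * s⁻¹ * e * (s * x * s⁻¹)⁻¹ * e⁻¹ ∈ E ⊓ M := by
  have sG := h.SG (hE hs)
  have sw := h.toWf.swap sG hn
  have x2 : s * x * s⁻¹ ∈ M := sw.1 ▸ conj_mem_cj s hx.2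
  have c := h.toWf.comm hx.2 x2
  have h4 : ∀ e ∈ E ⊓ 𝐍[L], s * x * s⁻¹ * e * (s * x * s⁻¹)⁻¹ * e⁻¹ ∈ E ⊓ M := fun e he => by
    have := conj_mem_cj s (hc (s⁻¹ * e * s⁻¹⁻¹) (mem_inf.2 ⟨mul_mem (mul_mem (inv_mem hs) he.1)
      (inv_mem (inv_mem hs)), (h.toWf.conj_iff (inv_mem sG) (h.SG (hE he.1))).2 he.2⟩))
    rw [cj_inf, cj_of_mem hs, sw.1] at this
    convert this using 1
    group
  have d : ∀ e ∈ E, e ∉ 𝐍[L] → ∃ f ∈ E ⊓ 𝐍[L], e = f * s := fun e he c =>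
    ⟨e * s⁻¹, mem_inf.2 ⟨mul_mem he (inv_mem hs), h.toWf.mul_sw (h.SG (hE he)) (inv_mem sG) c
      fun c => hn (inv_mem_iff.1 c)⟩, by group⟩
  have q : s * x * s⁻¹ * (s * x * s⁻¹) ∈ E := by
    rw [conj_mul]; exact mul_mem (mul_mem hs h2) (inv_mem hs)
  have h0 : ∀ e ∈ E ⊓ 𝐍[L], x * (s * x * s⁻¹) * e * (x * (s * x * s⁻¹))⁻¹ * e⁻¹ ∈
      (E ⊓ L) ⊔ (E ⊓ M) := fun e he => by
    convert mul_mem (mem_sup_right (h4 e he)) (mem_sup_left (hc e he)) using 1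
    rw [← conj_eq_iff.2 (h.toWf.comm hx.2 (h4 e he).2)]
    group
  have h5 := hc (s * s) ⟨mul_mem hs hs, h.toWf.sq_mem sG⟩
  have h6 : x * (s * x * s⁻¹) * s * (x * (s * x * s⁻¹))⁻¹ * s⁻¹ =
      x * (s * s) * x⁻¹ * (s * s)⁻¹ := by
    rw [← conj_eq_iff.2 (h.toWf.comm h5.2 x2).symm]
    nth_rw 1 [c]
    group
  refine ⟨fun e he => ?_, ?_, fun hy => ?_, h4⟩
  · by_cases c : e ∈ 𝐍[L]
    · exact h0 e ⟨he, c⟩
    obtain ⟨f, hf, rfl⟩ := d e he c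
    convert mul_mem (h0 f hf) (mem_sup_left (conj_mem_of_mem_normalizer
      (ninf (le_normalizer hf.1) hf.2) h5)) using 1
    rw [← h6]
    group
  · rw [mul_assoc, ← mul_assoc _ x, ← c, mul_assoc, ← mul_assoc]
    exact mul_mem h2 q
  · have h7 : ∀ e ∈ E ⊓ 𝐍[L], x * e * x⁻¹ ∈ E := fun e he => by
      simpa using E.mul_mem (hc e he).1 he.1
    refine mem_normalizer_of_cj_le (cj_le_iff_forall.2 fun e he => ?_)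
    by_cases c : e ∈ 𝐍[L]
    · exact h7 e ⟨he, c⟩
    obtain ⟨f, hf, rfl⟩ := d e he c
    rw [← conj_mul]
    refine mul_mem (h7 f hf) ?_
    convert mul_mem (mul_mem hy (inv_mem q)) hs using 1
    group

end Cx

end Cfsg.Agent.WfT
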