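import Cfsg.Agent.WfT.Ctl
import Cfsg.Agent.WfT.Ufp
import Cfsg.Agent.PF.Main
import Cfsg.Agent.Transfer.ThompsonTransfer

/-! The wreath theorem.  `Q = S ⊓ X`. -/

set_option autoImplicit false
set_option linter.unusedSectionVars false

namespace Cfsg.Agent.WfT

open Subgroup Cfsg.Agent.PLocal.Amb Cfsg.Agent.Wr Cfsg.Agent.WfS
open scoped commutatorElement

variable {G : Type*} [Group G] [Finite G] {L M S X : Subgroup G} {t z z' w g x : G}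

namespace Cx
variable (h : Cx L M t S z z' w)
include h

/-- `S` is Sylow in `⊤` (`Uq.le`), `IsSyl.inf_of_le` -/
theorem sylX [X.Normal] : IsSyl 2 (S ⊓ X) X :=
  (⟨le_top, h.syl.pgrp, fun R hR a _ => h.syl.max R hR a (h.toWf.uq.le hR (a h.tS))⟩ :
    IsSyl 2 S ⊤).inf_of_le le_top (by rw [normalizer_eq_top])

/-- the transfer into `Q / (Q ⊓ N(L))` -/
theorem fn_tr [X.Normal] (hp : ⁅X, X⁆ = X) {u : G} (hu : u ∈ S ⊓ X) (un : u ∉ 𝐍[L])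
    (h1 : ∀ g ∈ X, g * u * g⁻¹ ∈ S → g * u * g⁻¹ ∉ 𝐍[L])
    (h2 : ∀ g ∈ X, ∀ k : ℕ, Even k → g * u ^ k * g⁻¹ ∈ S → g * u ^ k * g⁻¹ ∈ 𝐍[L]) : False := by
  obtain ⟨K, -, hK, uK⟩ := Transfer.thompson_transfer_gen (G := X) (P := (S ⊓ X).subgroupOf X)
    (Q := (S ⊓ 𝐍[L]).subgroupOf X) (u := ⟨u, hu.2⟩)
    (Nat.odd_iff.2 (Nat.two_dvd_ne_zero.1 h.sylX.not_dvd_relIndex))
    (relIndex_eq_two_iff.2 ⟨⟨u, hu.2⟩, hu, fun b hb => by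
      have b1 : (b : G) ∈ S := hb.1
      by_cases c : (b : G) ∈ 𝐍[L]
      · exact Or.inr ⟨⟨b1, c⟩, fun e => un ((mul_mem_cancel_left c).1 e.2)⟩
      · exact Or.inl ⟨⟨mul_mem b1 hu.1, h.toWf.mul_sw (h.SG b1) (h.SG hu.1) c un⟩,
          fun e => c e.2⟩⟩)
    (by
      obtain ⟨m, hm⟩ := h.pow hu.1
      obtain ⟨n, -, e⟩ := (Nat.dvd_prime_pow Nat.prime_two).1 (orderOf_dvd_of_pow_eq_one hm)
      exact ⟨n, by rw [← e]; exact (orderOf_coe (⟨u, hu.2⟩ : X)).symm⟩)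
    (fun g e => h1 g g.2 e.1 e.2) (fun g k hk e => ⟨e.1, h2 g g.2 k hk e.1⟩)
  have : ⁅X, X⁆ ≤ K.map X.subtype := commutator_le.2 fun a ha b hb =>
    ⟨⁅(⟨a, ha⟩ : X), ⟨b, hb⟩⁆, by
      simp only [SetLike.mem_coe, commutatorElement_def, mul_mem_iff_of_index_two hK, inv_mem_iff]
      tauto, rfl⟩
  exact uK (mem_map_subtype.1 (this (hp.ge hu.2)))

/-- PROOF. Otherwise `Transfer.thompson_transfer` in `↥X` with `P = Q`, `Q ⊓ N(L)` of index `2`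
(`mul_sw`, `tN`): `X` perfect has no subgroup of index `2`, so `g t g⁻¹ ∈ G1 ⊓ N(L)`, against `uq`,
`conj_iff`, `tN`. -/
theorem tX [X.Normal] (hp : ⁅X, X⁆ = X) : t ∉ X := fun ht =>
  h.fn_tr hp ⟨h.tS, ht⟩ h.toWf.tN
    (fun g _ e c => h.toWf.tN ((h.toWf.conj_iff (h.toWf.uq.2.2 g (h.SG e)) h.toWf.tG).1 c))
    (fun g _ k ⟨j, hj⟩ _ => by
      rw [hj, ← two_mul, pow_mul, sq, h.tt, one_pow, mul_one, mul_inv_cancel]; exact one_mem _)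

theorem fn_tau [X.Normal] (hp : ⁅X, X⁆ = X) (hL : L ≤ X) {E : Subgroup G} (hE : E ≤ S ⊓ X)
    (hg : g ∈ X) (e : E ≤ cj(g, S)) : Tau L M E g = Tau L M E 1 :=
  h.toWf.ctl h.toWf.uq hL (h.tX hp) (h.syl.pgrp.to_le (hE.trans inf_le_left))
    (hE.trans inf_le_right) hg (hE.trans (inf_le_left.trans h.SG)) (e.trans (cj_mono g h.SG))

theorem fn_tau2 [X.Normal] (hp : ⁅X, X⁆ = X) (hL : L ≤ X) {E : Subgroup G} (hE : E ≤ S ⊓ X)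
    (hg : g ∈ X) (e : E ≤ cj(g, S)) : (E ⊓ cj(g, L) = E ⊓ L ∧ E ⊓ cj(g, M) = E ⊓ M) ∨
      (E ⊓ cj(g, L) = E ⊓ M ∧ E ⊓ cj(g, M) = E ⊓ L) := by
  have := congrArg Prod.snd (h.fn_tau hp hL hE hg e)
  simpa only [Tau, cj_one, Sym2.eq_iff] using this

theorem fn_fz [X.Normal] (hp : ⁅X, X⁆ = X) (hL : L ≤ X) (hx : x ∈ S ⊓ X) (hg : g ∈ X)
    (e : g * x * g⁻¹ ∈ S) : g * x * g⁻¹ ∈ 𝐍[L] ↔ x ∈ 𝐍[L] := by
  have := congrArg Prod.fst (h.fn_tau hp hL (E := zpowers (g * x * g⁻¹))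
    (zpowers_le.2 (mem_inf.2 ⟨e, mul_mem (mul_mem hg hx.2) (inv_mem hg)⟩)) hg
    (zpowers_le.2 (conj_mem_cj g hx.1)))
  simp only [Tau, cj_one, normalizer_cj] at this
  exact ⟨fun c => conj_mem_cj_iff.1 (this.ge ⟨mem_zpowers _, c⟩).2,
    fun c => (this.le ⟨mem_zpowers _, conj_mem_cj g c⟩).2⟩

/-- PROOF. For `y ∈ Q`, `g ∈ X` with `g⁻¹ y g ∈ Q`, the first component of `ctl` for `E = ⟨y⟩` says
`y ∈ N(L) ↔ g⁻¹ y g ∈ N(L)`.  If `u ∈ Q \ N(L)`, no `X`-conjugate of `u` lies in `Q ⊓ N(L)` and all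
conjugates of `u²`-powers lying in `Q` are in `N(L)`: `Transfer.thompson_transfer_gen` (or
`transfer_eq_pow_of_forall` with the sign map) contradicts `X = X'`. -/
theorem QN [X.Normal] (hp : ⁅X, X⁆ = X) (hL : L ≤ X) : S ⊓ X ≤ 𝐍[L] := fun u hu => by
  by_contra un
  refine h.fn_tr hp hu un (fun g hg e c => un ((h.fn_fz hp hL hu hg e).1 c)) ?_
  rintro g hg k ⟨j, rfl⟩ e
  refine (h.fn_fz hp hL (pow_mem hu _) hg e).2 ?_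
  rw [pow_add]
  exact h.toWf.sq_mem (h.SG (pow_mem hu.1 _))

/-- PROOF. second component of `ctl` for `E = ⟨g x g⁻¹⟩`: `E = E ⊓ cj(g, L)` is `E ⊓ L` or `E ⊓ M`. -/
theorem sc0 [X.Normal] (hp : ⁅X, X⁆ = X) (hL : L ≤ X) (hx : x ∈ S ⊓ L) (hg : g ∈ X)
    (e : g * x * g⁻¹ ∈ S) : g * x * g⁻¹ ∈ L ∨ g * x * g⁻¹ ∈ M := by
  rcases h.fn_tau2 hp hL (E := zpowers (g * x * g⁻¹))
    (zpowers_le.2 (mem_inf.2 ⟨e, mul_mem (mul_mem hg (hL hx.2)) (inv_mem hg)⟩)) hg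
    (zpowers_le.2 (conj_mem_cj g hx.1)) with ⟨c, -⟩ | ⟨c, -⟩
  · exact Or.inl (c.le ⟨mem_zpowers _, conj_mem_cj g hx.2⟩).2
  · exact Or.inr (c.le ⟨mem_zpowers _, conj_mem_cj g hx.2⟩).2

theorem fn_one (hx : x ∈ S) (h1 : x ∈ L) (h2 : x ∈ M) : x = 1 :=
  h.one hx (h.com h2) (h.toWf.com' h1)

/-- PROOF. Suppose `cj(g, T₂) ≤ T₁`; equality by order (`sT`).  `Q` and `cj(g, Q)` are Sylow in
`X ⊓ N(T₁)` (`QN`, `nT`, `nT'`), so `n = c g ∈ X ⊓ N(Q)` with `c ∈ N(T₁)`, `cj(n, T₂) = T₁`.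
`cj(n, T₁) ≤ S`; `ctl` for `E = Q` and `Tau_iff_Pm`, `mem_Pm`: `n` permutes `T₁ = Q ⊓ L`, `T₂`, and
`T₁ ≠ T₂` (`one`), so it swaps them, as do its odd powers; `exists_odd_pow` gives such a power in
`Q ≤ N(T₁)`. -/
theorem nf [X.Normal] (hp : ⁅X, X⁆ = X) (hL : L ≤ X) (hg : g ∈ X) : ¬ cj(g, S ⊓ M) ≤ S ⊓ L := by
  intro e
  have e0 : cj(g, S ⊓ M) = S ⊓ L := eq_of_le_of_card_ge e (by
    rw [card_cj, ← (h.sT h.tS h.toWf.tN).1, card_cj])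
  have Q0 : S ⊓ X ≤ S ⊓ 𝐍[L] := le_inf inf_le_left (h.QN hp hL)
  have s1 := h.sylX.mono (le_inf inf_le_right (Q0.trans h.nT)) inf_le_left
  have s2 := (h.sylX.cj_of_mem hg).mono (K := X ⊓ 𝐍[S ⊓ L]) (le_inf (cj_le_of_mem inf_le_right hg)
    (by rw [← e0, normalizer_cj]; exact cj_mono g (Q0.trans h.nT'))) inf_le_left
  obtain ⟨c, hc, e1⟩ := s1.exists_cj_eq s2
  rw [← cj_mul] at e1
  have nX : c * g ∈ X := mul_mem hc.1 hg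
  have e2 : cj(c * g, S ⊓ M) = S ⊓ L := by rw [cj_mul, e0, cj_eq_iff.2 hc.2]
  have ne : S ⊓ L ≠ S ⊓ M := fun c => h.z1 (h.fn_one h.zT.1 h.zT.2 (c.le h.zT).2)
  have pm := mem_Pm.1 ((Tau_iff_Pm (cj_eq_iff.1 e1)).1
    (h.fn_tau hp hL le_rfl nX (e1.ge.trans (cj_mono _ inf_le_left))))
  rw [inf_assoc S X L, inf_assoc S X M, inf_eq_right.2 hL, inf_eq_right.2 (h.toWf.ct_MX hL)] at pm
  rcases pm.2 with ⟨-, d⟩ | ⟨d, -⟩
  · exact ne (e2.symm.trans (cj_eq_iff.2 d))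
  obtain ⟨m, ⟨j, rfl⟩, hm⟩ := exists_odd_pow h.sylX nX (cj_eq_iff.1 e1)
  have n2 : (c * g) ^ 2 ∈ 𝐍[S ⊓ L] := cj_eq_iff.1 (by rw [sq, cj_mul, d, e2])
  have := h.nT (Q0 hm)
  rw [pow_succ, pow_mul, mul_mem_cancel_left (pow_mem n2 j)] at this
  exact ne ((cj_eq_iff.2 this).symm.trans d)

theorem fn_aux [X.Normal] (hp : ⁅X, X⁆ = X) (hL : L ≤ X) (hx : x ∈ S ⊓ L) (x1 : x ≠ 1) (hg : g ∈ X)
    (e : cj(g, S ⊓ X ⊓ centralizer {x}) ≤ S ⊓ X) : g * x * g⁻¹ ∉ M := fun c => by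
  have m : g * x * g⁻¹ ∈ cj(g, S ⊓ X ⊓ centralizer {x}) := conj_mem_cj g ⟨⟨hx.1, hL hx.2⟩, mem_z.2 rfl⟩
  rcases h.fn_tau2 hp hL e hg (cj_mono g (inf_le_left.trans inf_le_left)) with ⟨a, -⟩ | ⟨-, a⟩
  · exact x1 (conj_inj (g := g) (by
      rw [h.fn_one (e m).1 (a.le ⟨m, conj_mem_cj g hx.2⟩).2 c]; group))
  · refine h.nf hp hL hg ((le_inf (cj_mono g fun y hy => ?_) (cj_mono g inf_le_right)).trans
      (a.le.trans (inf_le_inf_right _ (e.trans inf_le_left))))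
    exact ⟨⟨hy.1, h.toWf.ct_MX hL hy.2⟩, mem_z.2 (h.toWf.comm hx.2 hy.2).symm⟩

/-- PROOF. Otherwise `1 ≠ x ∈ T₁`, `x' = x^g ∈ T₂` (`sc0`).  Let `y` be extremal (`Wr.extremal` for
`Q`, `X`, `x`): `y = x^k ∈ Q`, so `y ∈ L` or `y ∈ M` (`sc0`).  If `y ∈ M`: `E = cj(k, C_Q(x)) ≤ Q`,
`E ≥ cj(k, T₂)`; `ctl` for `E`, `k`: `{E ⊓ L^k, E ⊓ M^k} = {E ⊓ L, E ⊓ M}`, `y ∈ L^k`, `y ∉ L` (`one`), so
`E ⊓ M^k = E ⊓ L`, `cj(k, T₂) ≤ T₁`, against `nf`.  If `y ∈ L`: the same with `x'` and `h.symm.nf`. -/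
theorem sc [X.Normal] (hp : ⁅X, X⁆ = X) (hL : L ≤ X) (hx : x ∈ S ⊓ L) (hg : g ∈ X)
    (e : g * x * g⁻¹ ∈ S) : g * x * g⁻¹ ∈ L := by
  by_contra c
  have x1 : x ≠ 1 := fun a => c (by rw [a, mul_one, mul_inv_cancel]; exact one_mem _)
  obtain ⟨y, hy⟩ := extremal (h.sylX (X := X)) x
  obtain ⟨k, hk, e1, e2⟩ := hy 1 (one_mem _)
  rw [one_mul, inv_one, mul_one] at e1 e2
  obtain ⟨l, hl, e3, e4⟩ := hy g hg
  refine h.symm.fn_aux hp (h.toWf.ct_MX hL) ⟨e, (h.sc0 hp hL hx hg e).resolve_left c⟩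
    (fun a => c (a ▸ one_mem _)) hl e4 ?_
  rw [e3, ← e1]
  exact (h.sc0 hp hL hx hk (e2 (conj_mem_cj k ⟨⟨hx.1, hL hx.2⟩, mem_z.2 rfl⟩)).1).resolve_right
    (h.fn_aux hp hL hx x1 hk e2)

theorem fn_sc [X.Normal] (hp : ⁅X, X⁆ = X) (hL : L ≤ X) :
    IsStronglyClosed ((S ⊓ L).subgroupOf X) ((S ⊓ X).subgroupOf X) :=
  ⟨fun x hx => ⟨hx.1, x.2⟩, fun _ hx g hg => ⟨hg.1, h.sc hp hL hx g.2 hg.1⟩⟩

theorem fn_top [X.Normal] [IsSimpleGroup X] (hL : L ≤ X) :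
    normalClosure (((S ⊓ L).subgroupOf X : Subgroup X) : Set X) = ⊤ := by
  refine (IsSimpleGroup.eq_bot_or_eq_top_of_normal _ inferInstance).resolve_left fun e => h.z1 ?_
  have : (⟨z, hL h.zT.2⟩ : X) ∈ normalClosure (((S ⊓ L).subgroupOf X : Subgroup X) : Set X) :=
    subset_normalClosure h.zT
  rw [e] at this
  exact congrArg Subtype.val (mem_bot.1 this)

end Cx

/-- PROOF. `X` is not abelian (`perf`, `ne`), so perfect.  `exists_cx`; `T₁`, `T₂` are strongly closed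
in `Q` (`sc`, `symm.sc`; `M ≤ X` as `X` is normal), commute and are disjoint: copy `Wr.Two.sc`,
`Wr.Two.false` (file `Wr/FinA`, uses `PF.pf`). -/
theorem Wf.false (h : Wf L M t) (X : Subgroup G) [X.Normal] [IsSimpleGroup X] (hL : L ≤ X) :
    False := by
  have hp : ⁅X, X⁆ = X := by
    have : (⁅X, X⁆.subgroupOf X).Normal :=
      normal_subgroupOf' (le_normalizer_commutator le_normalizer le_normalizer)
    rcases IsSimpleGroup.eq_bot_or_eq_top_of_normal _ this with e | e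
    · refine absurd (eq_bot_iff.2 fun a ha => ?_) h.ne
      have m : (⟨a, hL ha⟩ : X) ∈ ⁅X, X⁆.subgroupOf X := commutator_mono hL hL (h.perf.ge ha)
      rw [e] at m
      exact congrArg Subtype.val (mem_bot.1 m)
    · exact le_antisymm (commutator_le_self _) (subgroupOf_eq_top.1 e)
  obtain ⟨S, z, z', w, c, -⟩ := h.exists_cx (StdL.isPGroup_zp h.tt) (zpowers_le.2 h.tG)
    (mem_zpowers t)
  obtain ⟨P, hP⟩ := (c.sylX (X := X)).exists_sylow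
  have := PF.pf (hP ▸ isSyl_top P) (c.fn_sc hp hL) (c.symm.fn_sc hp (h.ct_MX hL))
    (fun a ha b hb => Subtype.ext (h.comm ha.2 hb.2))
    (eq_bot_iff.2 fun a ha => Subtype.ext (c.fn_one ha.1.1 ha.1.2 ha.2.2))
  rw [c.fn_top hL, c.symm.fn_top (h.ct_MX hL)] at this
  have hz : (⟨z, hL c.zT.2⟩ : X) ∈ Lyons.oc (⊤ : Subgroup X) := by
    rw [Lyons.oc_top]
    refine this (mem_map_subtype.1 ?_)
    rw [map_commutator, ← MonoidHom.range_eq_map, range_subtype, hp]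
    exact hL c.zT.2
  have ho := Lyons.odd_orderOf (Lyons.odd_oc _) hz
  have h2 : orderOf (⟨z, hL c.zT.2⟩ : X) = 2 :=
    orderOf_eq_prime (Subtype.ext (by simpa [sq] using c.zz)) fun e => c.z1 (congrArg Subtype.val e)
  rw [h2] at ho
  exact absurd ho (by decide)

end Cfsg.Agent.WfT
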