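import Cfsg.Agent.WfT.Lc
import Cfsg.Agent.FinS.Pt

/-! Control of the labelling. -/

set_option autoImplicit false
set_option linter.unusedSectionVars false

namespace Cfsg.Agent.WfT

open Subgroup Cfsg.Agent.PLocal.Amb Cfsg.Agent.Wr Cfsg.Agent.WfS
open scoped commutatorElement

variable {G : Type*} [Group G] [Finite G] {L M X E : Subgroup G} {t g : G}

theorem Wf.ct_MX (h : Wf L M t) [X.Normal] (hL : L ≤ X) : M ≤ X :=
  h.tL ▸ (cj_mono t hL).trans (cj_of_normal t X).le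

/-- steps (2), (3): the case `t ∈ N(F)` -/
theorem Wf.ct_aux (h : Wf L M t) (uq : StdL.Uq (G1 L M) t) [X.Normal] (hL : L ≤ X) (tX : t ∉ X)
    {F : Subgroup G} (hF : IsPGroup 2 F) (FX : F ≤ X) (tF : t ∈ 𝐍[F])
    (mx : ∀ P : Subgroup G, Nat.card F < Nat.card P → IsPGroup 2 P → P ≤ X → ∀ a ∈ X,
      P ≤ G1 L M → P ≤ cj(a, G1 L M) → Tau L M P a = Tau L M P 1)
    {b : G} (hb : b ∈ X) (Fb : F ≤ cj(b, G1 L M)) : Tau L M F b = Tau L M F 1 := by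
  have FG := uq.le_of_norm hF tF
  have lt : ∀ {P : Subgroup G}, F < P → Nat.card F < Nat.card P := fun e =>
    (card_le_of_le e.le).lt_of_ne fun c => e.ne (eq_of_le_of_card_ge e.le c.ge)
  have pF := pg_sup hF tF (h.tt ▸ one_mem F)
  obtain ⟨S, z, z', w, cx, hS⟩ := h.exists_cx pF (sup_le FG (zpowers_le.2 h.tG))
    (mem_sup_right (mem_zpowers t))
  have tn : t ∈ 𝐍[X ⊓ 𝐍[F]] := cj_eq_iff.1 (by
    rw [cj_inf, cj_of_normal, ← normalizer_cj, cj_eq_iff.2 tF])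
  have lx : Lx L M t S z z' w F (X ⊓ 𝐍[F]) :=
    { cx with
      uq := uq
      ES := le_sup_left.trans hS
      tE := tF
      EN := le_inf FX le_normalizer
      NE := inf_le_right
      tN := fun e => tX e.1
      tn := tn
      LN := inf_le_inf_right _ (sup_le hL (h.ct_MX hL))
      ux := fun x hx xF x2 g hg e => (Tau_iff_Pm hg.2).1 (Tau_mono le_sup_left
        (mx _ (lt (le_sup_left.lt_of_ne fun c => xF (c ▸ mem_sup_right (mem_zpowers x))))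
          (pg_sup hF hx.1.2 x2) (sup_le FX (zpowers_le.2 hx.1.1)) g hg.1
          (sup_le FG (zpowers_le.2 hx.2))
          (sup_le ((cj_eq_iff.2 hg.2).ge.trans (cj_mono g FG)) (zpowers_le.2 (mem_cj.2 e))))) }
  have NP : ∀ n ∈ X ⊓ 𝐍[F], Tau L M F n = Tau L M F 1 := fun n hn =>
    (Tau_iff_Pm hn.2).2 (lx.le hn)
  obtain ⟨R, hR, FR⟩ := exists_isSyl_ge hF (le_inf FX Fb)
  rcases FR.eq_or_lt with rfl | FR
  · have s1 := hR.cj b⁻¹
    rw [cj_inf, cj_of_normal _ X, cj_inv_cj] at s1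
    obtain ⟨c, hc, e⟩ := (s1.of_card_ge hF (le_inf FX FG) (card_cj _ _).le).exists_cj_eq s1
    rw [← cj_mul, cj_eq_iff] at e
    have hn : b * c⁻¹ ∈ X ⊓ 𝐍[F] := mem_inf.2 ⟨mul_mem hb (inv_mem (mem_inf.1 hc).1), by
      simpa only [mul_inv_rev, inv_inv] using inv_mem e⟩
    rw [← NP _ hn, ← h.Tau_mul hc.2 ((cj_eq_iff.2 hn.2).ge.trans (cj_mono _ FG)),
      inv_mul_cancel_right]
  · have FP := lt_inf_normalizer hR.pgrp FR
    obtain ⟨T, hT, -, tT⟩ := exists_inv_syl h.tt tn hF lx.EN tF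
    obtain ⟨n, hn, e⟩ := hT.exists_cj_le (hR.pgrp.to_le (inf_le_left : R ⊓ 𝐍[F] ≤ R))
      (inf_le_inf_right _ (hR.le.trans inf_le_left))
    have e1 := mx cj(n, R ⊓ 𝐍[F]) (by rw [card_cj]; exact lt FP) (hT.pgrp.to_le e)
      (e.trans (hT.le.trans inf_le_left)) (n * b) (mul_mem hn.1 hb)
      (e.trans (uq.le_of_norm hT.pgrp tT))
      (by rw [cj_mul]; exact cj_mono n (inf_le_left.trans (hR.le.trans inf_le_right)))
    have e2 := Tau_mono (cj_mono n FP.le) e1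
    refine (Tau_cj n).1 (e2.trans ?_)
    rw [mul_one, cj_eq_iff.2 hn.2, NP n hn]

/-- PROOF. Induction downwards on `|E|`: (Mx) the claim holds for larger groups; by `Tau_cj` it then
holds for every pair of points `a, b ∈ X` (`P ≤ cj(a, G1) ⊓ cj(b, G1)` gives
`Tau P a = Tau P b`).  Suppose `Tau E g ≠ Tau E 1`.
(1) `E` is Sylow in `Y = X ⊓ G1 ⊓ cj(g, G1)` (Mx, `Tau_mono`).  `FinS.Uf.exists_swap`: `f = k t k⁻¹`,
`k ∈ X`, `f g ∈ G1`, `g⁻¹ f ∈ G1`, so `f` normalises `Y`.  An `f`-invariant Sylow `E'` of `Y`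
(`exists_inv_syl`) is `cj(y, E)`, `y ∈ Y`, and `Tau E' g ≠ Tau E' 1` (`Tau_cj`, `Tau_mul`:
`y g = g (g⁻¹ y g)`).  `F = cj(k⁻¹, E') ≤ X` is normalised by `t`, so `F ≤ G1` (`Uq.le_of_norm`), and
`Tau F (k⁻¹ g) ≠ Tau F k⁻¹`; so `Tau F b ≠ Tau F 1` for `b = k⁻¹ g` or `b = k⁻¹`,
`F ≤ cj(b, G1)`, `|F| = |E|`.
(2) `N = X ⊓ N(F) ≤ Pm L M F`: `Lx.le` with `S ≥ F ⊔ ⟨t⟩` from `exists_cx`; `ux`: Mx for
`F ⊔ ⟨x⟩` (`pg_sup`), `Tau_mono`, `Tau_iff_Pm`.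
(3) Let `R ≥ F` be Sylow in `X ⊓ cj(b, G1)`.  If `R = F`: `cj(b⁻¹, F)` is Sylow in `X ⊓ G1`, `F` too,
`cj(c, cj(b⁻¹, F)) = F`, `c ∈ X ⊓ G1`, `n = b c⁻¹ ∈ N`, `Tau F b = Tau F n = Tau F 1` (`Tau_mul`,
`Tau_iff_Pm`).  Otherwise `P = R ⊓ N(F) > F`; a `t`-invariant Sylow `T` of `N` lies in `G1`,
`cj(n, P) ≤ T`, `n ∈ N`; Mx: `Tau cj(n, P) (n b) = Tau cj(n, P) 1`, so
`Tau F (n b) = Tau F 1 = Tau F (n 1)` and `Tau_cj` gives `Tau F b = Tau F 1`. -/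
theorem Wf.ctl (h : Wf L M t) (uq : StdL.Uq (G1 L M) t) [X.Normal] (hL : L ≤ X) (tX : t ∉ X)
    (hE : IsPGroup 2 E) (EX : E ≤ X) (hg : g ∈ X) (h1 : E ≤ G1 L M) (h2 : E ≤ cj(g, G1 L M)) :
    Tau L M E g = Tau L M E 1 := by
  induction hn : Nat.card G - Nat.card E using Nat.strong_induction_on generalizing E g with
  | _ n ih =>
  have mx : ∀ P : Subgroup G, Nat.card E < Nat.card P → IsPGroup 2 P → P ≤ X → ∀ a ∈ X,
      P ≤ G1 L M → P ≤ cj(a, G1 L M) → Tau L M P a = Tau L M P 1 := fun P c a1 a2 a a3 a4 a5 =>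
    ih _ (by have := card_le_card_group P; omega) a1 a2 a3 a4 a5 rfl
  obtain ⟨R, hR, ER⟩ := exists_isSyl_ge hE (le_inf EX (le_inf h1 h2))
  rcases ER.eq_or_lt with rfl | ER'
  swap
  · exact Tau_mono ER (mx R ((card_le_of_le ER).lt_of_ne fun c => ER'.ne
      (eq_of_le_of_card_ge ER c.ge)) hR.pgrp (hR.le.trans inf_le_left) g hg
      (hR.le.trans (inf_le_right.trans inf_le_left)) (hR.le.trans (inf_le_right.trans inf_le_right)))
  obtain ⟨k, hk, e1, e2⟩ := FinS.Uf.exists_swap ⟨h.tt, h.tG, uq.2.2⟩ tX hg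
  obtain ⟨E', hE', -, tE'⟩ := exists_inv_syl (conj_sq (g := k) h.tt)
    (Y := X ⊓ (G1 L M ⊓ cj(g, G1 L M))) (R := ⊥) (cj_eq_iff.1 (by
      rw [cj_inf, cj_inf, cj_of_normal, ← cj_mul, cj_of_mem e1, FinS.pt_cj e2, inf_comm (G1 L M)]))
    IsPGroup.of_bot bot_le (cj_eq_iff.1 (cj_bot _))
  obtain ⟨y, hy, rfl⟩ := hE'.exists_cj_eq hR
  have l1 := hE'.le.trans (inf_le_right.trans inf_le_left)
  have l2 := hE'.le.trans (inf_le_right.trans inf_le_right)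
  have key : ∀ b ∈ X, cj(y, E) ≤ cj(b, G1 L M) → Tau L M cj(k⁻¹, cj(y, E)) (k⁻¹ * b) =
      Tau L M cj(k⁻¹, cj(y, E)) 1 := fun b hb e =>
    h.ct_aux uq hL tX (isPGroup_cj _ hE'.pgrp)
      (cj_le_of_mem (hE'.le.trans inf_le_left) (inv_mem hk))
      (by rw [normalizer_cj, mem_cj, inv_inv]; exact tE') (by rwa [card_cj, card_cj])
      (mul_mem (inv_mem hk) hb) (by rw [cj_mul]; exact cj_mono _ e)
  have e3 := (Tau_cj k⁻¹).1 ((key g hg l2).trans (key 1 (one_mem _) (by rwa [cj_one])).symm)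
  refine (Tau_cj y).1 ?_
  rw [show y * g = g * (g⁻¹ * y * g) by group, h.Tau_mul (mem_cj.1 hy.2.2) l2, e3, mul_one,
    ← one_mul y, h.Tau_mul hy.2.1 (by rwa [cj_one, one_mul])]

end Cfsg.Agent.WfT
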