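import Cfsg.Agent.WfS.Perm0

/-! Type free wreath theorem, variant of `WfS` with another `Loc` (for `F₄`): definitions.  `M = cj(t, L)`, `G1 = N(L M)`.  Elements of `G1`
permute `L` and `M`; those outside `N(L)` are called swapping. -/

set_option autoImplicit false

namespace Cfsg.Agent.WfT

open Subgroup Cfsg.Agent.PLocal.Amb Cfsg.Agent.WfS
open scoped commutatorElement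

variable {G : Type*} [Group G]

/-- facts on a `2`-group `P ≤ N(L)` containing the Sylow subgroup `T = P ⊓ L` of `L` -/
structure Loc (L P : Subgroup G) : Prop where
  c1 : ∀ x ∈ P, x ∈ 𝐂[P ⊓ L] → ∃ z ∈ Zt (P ⊓ L), x * z ∈ 𝐂[L]
  c2 : Zt (P ⊓ L) ≤ ⁅P ⊓ L, P ⊓ L⁆
  h4 : ∃ A ≤ P ⊓ L, (∀ a ∈ A, a * a = 1) ∧ P ≤ 𝐍[A] ∧ 2 < Nat.card A
  ab : ⁅P, P⁆ ≤ (P ⊓ L) ⊔ 𝐂[L]
  zf : ∃ N₀, ¬ ⁅P ⊓ L, P ⊓ L⁆ ≤ N₀ ∧ ∀ F ≤ P, P ⊓ L ≤ 𝐍[F] → F ≤ N₀ ∨ Zt (P ⊓ L) ≤ F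
  c3 : ∀ V ≤ P ⊓ L, P ⊓ L ≤ 𝐍[V] → ¬ V < Zt (P ⊓ L) → P ⊓ 𝐂[V] ≤ (P ⊓ L) ⊔ 𝐂[L]
  mu : ⁅P ⊓ 𝐂[⁅P ⊓ L, P ⊓ L⁆], P ⊓ 𝐂[⁅P ⊓ L, P ⊓ L⁆]⁆ ≤ 𝐂[L]

/-- the hypotheses of the wreath theorem -/
structure Wf (L M : Subgroup G) (t : G) : Prop where
  tt : t * t = 1
  tL : cj(t, L) = M
  com : M ≤ 𝐂[L]
  perf : ⁅L, L⁆ = L
  ne : L ≠ ⊥
  qs : ∀ K ≤ L, L ≤ 𝐍[K] → K ≤ 𝐂[L] ∨ K = L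
  k0 : ∀ k ∈ 𝐂[L], k * k = 1 → k * t = t * k → k = 1
  home : ∀ g, g * t * g⁻¹ ∈ G1 L M → g * t * g⁻¹ ∉ 𝐍[L] → g ∈ G1 L M
  loc : ∀ P : Subgroup G, IsPGroup 2 P → P ≤ 𝐍[L] → IsSyl 2 (P ⊓ L) L → Loc L P

/-- a Sylow subgroup `S ∋ t` of `G1`, `z` central in `S⁰ = N_S(L)`, `⟨z, w⟩` normal in `S⁰` -/
structure Cx (L M : Subgroup G) (t : G) (S : Subgroup G) (z z' w : G) : Prop extends Wf L M t where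
  syl : IsSyl 2 S (G1 L M)
  tS : t ∈ S
  zT : z ∈ S ⊓ L
  z1 : z ≠ 1
  zz : z * z = 1
  zS : ∀ p ∈ S ⊓ 𝐍[L], p * z * p⁻¹ = z
  tz : t * z * t⁻¹ = z'
  wT : w ∈ S ⊓ L
  w1 : w ≠ 1
  ww : w * w = 1
  wz : w ≠ z
  wS : ∀ p ∈ S ⊓ 𝐍[L], p * w * p⁻¹ = w ∨ p * w * p⁻¹ = w * z

/-- the local situation of the control theorem -/
structure Lx (L M : Subgroup G) (t : G) (S : Subgroup G) (z z' w : G) (E N : Subgroup G) : Prop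
    extends Cx L M t S z z' w where
  uq : StdL.Uq (G1 L M) t
  ES : E ≤ S
  tE : t ∈ 𝐍[E]
  EN : E ≤ N
  NE : N ≤ 𝐍[E]
  tN : t ∉ N
  tn : t ∈ 𝐍[N]
  LN : (L ⊔ M) ⊓ 𝐍[E] ≤ N
  ux : ∀ x ∈ N ⊓ G1 L M, x ∉ E → x * x ∈ E → ∀ g ∈ N, g⁻¹ * x * g ∈ G1 L M → g ∈ Pm L M E

end Cfsg.Agent.WfT
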