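import Cfsg.Agent.WfT.LemB

/-! `N(E)` permutes `T₁` and `T₂` for `T₁ T₂ ≤ E ≤ S` (notation of `LemB`). -/

set_option autoImplicit false
set_option linter.unusedSectionVars false
set_option linter.unusedVariables false

namespace Cfsg.Agent.WfT

open Subgroup Cfsg.Agent.PLocal.Amb Cfsg.Agent.Wr Cfsg.Agent.WfS
open scoped commutatorElement

variable {G : Type*} [Group G] [Finite G] {L M S E : Subgroup G} {t z z' w g : G}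

namespace Cx
variable (h : Cx L M t S z z' w)
include h

theorem lc_tT : cj(t, S ⊓ L) = S ⊓ M := (h.sT h.tS h.toWf.tN).1
theorem lc_tT' : cj(t, S ⊓ M) = S ⊓ L := (h.sT h.tS h.toWf.tN).2

theorem lc_tZ : cj(t, Zt (S ⊓ L)) = Zt (S ⊓ M) := by
  rw [Zt, Zt, cj_inf, ← centralizer_cj, h.lc_tT]

theorem lc_nZ : S ⊓ 𝐍[L] ≤ 𝐍[Zt (S ⊓ L)] := le_normalizer_inf h.nT (le_normalizer_centralizer h.nT)

theorem lc_ZS : Zt (S ⊓ L) ≤ S ⊓ 𝐍[L] := inf_le_left.trans h.T0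

theorem lc_oneL {x : G} (hx : x ∈ S ⊓ L) (h1 : x ∈ 𝐂[L]) : x = 1 := h.one hx.1 h1 (h.toWf.com' hx.2)

/-- subgroups of `E⁰` normalised by `S⁰` and their `N(E)`-conjugates -/
theorem lc_cjF (hE : E ≤ S) (h1 : S ⊓ L ≤ E) (h2 : S ⊓ M ≤ E) (hg : g ∈ 𝐍[E]) {F : Subgroup G}
    (f1 : F ≤ S ⊓ L) (f2 : S ⊓ 𝐍[L] ≤ 𝐍[F]) :
    cj(g, F) ≤ E ⊓ 𝐍[L] ∧ S ⊓ L ≤ 𝐍[cj(g, F)] := by
  have b := h.b2 hE h1 h2 hg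
  have t0 : S ⊓ L ≤ E ⊓ 𝐍[L] := le_inf h1 (h.T0.trans inf_le_right)
  refine ⟨cj_le_of_mem_normalizer (f1.trans t0) b, ?_⟩
  rw [normalizer_cj]
  refine t0.trans ((cj_eq_iff.2 b).ge.trans (cj_mono g ((inf_le_inf_right _ hE).trans f2)))

theorem cZ0 (hE : E ≤ S) (h1 : S ⊓ L ≤ E) (h2 : S ⊓ M ≤ E) (hg : g ∈ 𝐍[E])
    (c2 : cj(g, S ⊓ M) ≤ 𝐂[S ⊓ L]) : cj(g, Zt (S ⊓ L)) ≤ S ⊓ L := by
  have e0 : E ⊓ 𝐍[L] ≤ S ⊓ 𝐍[L] := inf_le_inf_right _ hE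
  have c3 : cj(g⁻¹, S ⊓ L) ≤ 𝐂[S ⊓ M] := by
    rw [← le_cj_iff, ← centralizer_cj]; exact le_centralizer_iff.1 c2
  obtain ⟨f1, f2⟩ := h.lc_cjF hE h1 h2 (inv_mem hg) le_rfl h.nT
  rw [cj_le_iff]
  refine ((h.b1s hE h1 h2 (inv_mem hg)).resolve_right fun c => h.z1 (conj_inj (g := g⁻¹) ?_)).1
  have m : g⁻¹ * z * g⁻¹⁻¹ ∈ ⁅cj(g⁻¹, S ⊓ L), cj(g⁻¹, S ⊓ L)⁆ := by
    rw [commutator_cj]; exact conj_mem_cj _ (h.c2 h.zZ)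
  rw [h.one (e0 (f1 (conj_mem_cj _ h.zT))).1 (h.symm.der (h.S0 ▸ f1.trans e0) c.2 m)
    (h.der (f1.trans e0) c3 m)]
  group

theorem cG0 (hE : E ≤ S) (h1 : S ⊓ L ≤ E) (h2 : S ⊓ M ≤ E) (hg : g ∈ 𝐍[E])
    (c1 : cj(g, S ⊓ L) ≤ 𝐂[S ⊓ M]) (c2 : cj(g, S ⊓ M) ≤ 𝐂[S ⊓ L]) :
    cj(g, S ⊓ L) ≤ (S ⊓ L) ⊔ Zt (S ⊓ M) := fun x hx => by
  have f1 := ((h.lc_cjF hE h1 h2 hg le_rfl h.nT).1.trans (inf_le_inf_right _ hE)) hx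
  obtain ⟨a, ha, c, hc, e⟩ := h.dec (h.c3 (h.cZ0 hE h1 h2 hg c2)
    (h.lc_cjF hE h1 h2 hg inf_le_left h.lc_nZ).2
    (fun k => k.ne (eq_of_le_of_card_ge k.le (card_cj g _).ge)) ⟨f1, by
      rw [centralizer_cj]; exact cj_mono g (le_centralizer_iff.1 inf_le_right) hx⟩)
  have e' : c = a⁻¹ * x := by rw [e, inv_mul_cancel_left]
  obtain ⟨a', ha', b, hb, e1⟩ := h.cU (x := c) (e' ▸ mul_mem (inv_mem (h.T0 ha)) f1)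
    (centralizer_anti inf_le_right hc)
    (e' ▸ mul_mem (inv_mem (centralizer_anti inf_le_right (h.toWf.com' ha.2))) (c1 hx))
  rw [e, e1, ← mul_assoc]
  exact mul_mem_sup (mul_mem ha ha'.1) hb

theorem cZ (hE : E ≤ S) (h1 : S ⊓ L ≤ E) (h2 : S ⊓ M ≤ E) (hg : g ∈ 𝐍[E])
    (c1 : cj(g, S ⊓ L) ≤ 𝐂[S ⊓ M]) (c2 : cj(g, S ⊓ M) ≤ 𝐂[S ⊓ L]) : g ∈ 𝐍[Zt (S ⊓ L)] := by
  have k := h.cG0 hE h1 h2 (inv_mem hg)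
    (by rw [← le_cj_iff, ← centralizer_cj]; exact le_centralizer_iff.1 c2)
    (by rw [← le_cj_iff, ← centralizer_cj]; exact le_centralizer_iff.1 c1)
  refine mem_normalizer_of_cj_le (le_inf (h.cZ0 hE h1 h2 hg c2) (le_centralizer_iff.1 ?_))
  rw [centralizer_cj, le_cj_iff]
  exact k.trans (sup_le (le_centralizer_iff.1 inf_le_right) (inf_le_left.trans (inf_le_right.trans
    (h.com.trans (centralizer_anti (inf_le_left.trans inf_le_right))))))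

theorem cG (hE : E ≤ S) (h1 : S ⊓ L ≤ E) (h2 : S ⊓ M ≤ E) (hg : g ∈ 𝐍[E])
    (hZ : g ∈ 𝐍[Zt (S ⊓ L)]) :
    g ∈ 𝐍[Zt (S ⊓ M)] ∧ cj(g, S ⊓ L) ≤ (S ⊓ L) ⊔ Zt (S ⊓ M) := by
  rcases h.b1 hE h1 h2 hg with ⟨a, b, -⟩ | ⟨-, -, c⟩
  · exact ⟨h.symm.cZ hE h2 h1 hg b a, h.cG0 hE h1 h2 hg a b⟩
  · rw [cj_eq_iff.2 hZ] at c
    exact absurd (h.lc_oneL h.zT (c h.zZ)) h.z1

/-- PROOF. `Y = C(K) ≤ C(z)`.  `Q = S⁰ ⊓ Y` is Sylow in `Y` (`sylz`, `IsSyl.mono` to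
`C(z) ⊓ N(K)`, `IsSyl.inf_of_le`).  `cG` for `g⁻¹`: `T₁^{g⁻¹} ≤ T₁ Z₂`, so
`K^{g⁻¹} ≤ ⁅T₁ Z₂, T₁ Z₂⁆ ≤ L ≤ C(M)` (`Z₂` is central in `T₁ Z₂`), i.e. `M^g ≤ Y`; also `M ≤ Y`.
`M` is perfect, so `M, M^g ≤ ⁅Y, Y⁆`.  `h.symm.cG`: for `x ∈ T₂`, `x^g = x' a`, `x' ∈ T₂`, `a ∈ Z₁`;
`a ∈ ⁅Y, Y⁆`, `a ∈ K ≤ C(Y)`, `a ∈ Q`; `tr_center` gives `a ∈ ⁅Q, Q⁆ ≤ C(L)`, so `a = 1` (`one`). -/
theorem cB (uq : StdL.Uq (G1 L M) t) (hE : E ≤ S) (h1 : S ⊓ L ≤ E) (h2 : S ⊓ M ≤ E)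
    (hg : g ∈ 𝐍[E]) (hZ : g ∈ 𝐍[Zt (S ⊓ L)]) {K : Subgroup G} (k1 : Zt (S ⊓ L) ≤ K)
    (k2 : K ≤ ⁅S ⊓ L, S ⊓ L⁆) (k3 : S ⊓ 𝐍[L] ≤ 𝐍[K])
    (k4 : ⁅S ⊓ 𝐍[L] ⊓ 𝐂[K], S ⊓ 𝐍[L] ⊓ 𝐂[K]⁆ ≤ 𝐂[L]) : g ∈ 𝐍[S ⊓ M] := by
  have KT : K ≤ S ⊓ L := k2.trans (commutator_le_self _)
  have sz := h.sylz uq
  have sy : IsSyl 2 (S ⊓ 𝐍[L] ⊓ 𝐂[K]) 𝐂[K] :=
    (sz.mono (le_inf sz.le k3) inf_le_left).inf_of_le
      (le_inf (fun y hy => mem_centralizer_singleton_iff.2 (mem_C.1 hy z (k1 h.zZ)).symm)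
        (centralizer_le_normalizer' _)) (inf_le_right.trans (normalizer_le_normalizer_centralizer _))
  obtain ⟨-, g3⟩ := h.cG hE h1 h2 (inv_mem hg) (inv_mem hZ)
  have d : ⁅(S ⊓ L) ⊔ Zt (S ⊓ M), (S ⊓ L) ⊔ Zt (S ⊓ M)⁆ ≤ 𝐂[M] :=
    h.der (sup_le h.T0 (inf_le_left.trans h.T0'))
      (sup_le (inf_le_right.trans (h.toWf.com'.trans (centralizer_anti inf_le_right))) inf_le_right)
  have m1 : cj(g, M) ≤ 𝐂[K] := by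
    rw [cj_le_iff, ← centralizer_cj, le_centralizer_iff]
    refine (cj_mono _ k2).trans ?_
    rw [← commutator_cj]
    exact (commutator_mono g3 g3).trans d
  have m2 : M ≤ 𝐂[K] := h.com.trans (centralizer_anti (KT.trans inf_le_right))
  have pM := h.symm.perf
  have m3 : cj(g, M) ≤ ⁅𝐂[K], 𝐂[K]⁆ := by
    rw [← pM, ← commutator_cj]; exact commutator_mono m1 m1
  have m4 : M ≤ ⁅𝐂[K], 𝐂[K]⁆ := pM.ge.trans (commutator_mono m2 m2)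
  obtain ⟨-, g4⟩ := h.symm.cG hE h2 h1 hg (h.cG hE h1 h2 hg hZ).1
  refine mem_normalizer_of_cj_le (cj_le_iff_forall.2 fun x hx => ?_)
  obtain ⟨x', hx', a, ha, e⟩ := (mem_sup_of_le_normalizer_left
    (inf_le_left.trans (h.T0.trans h.nT'))).1 (g4 (conj_mem_cj g hx))
  have a1 : a ∈ ⁅𝐂[K], 𝐂[K]⁆ := (mul_mem_cancel_left (m4 hx'.2)).1 (e ▸ m3 (conj_mem_cj g hx.2))
  have := tr_center sy ⟨h.lc_ZS ha, centralizer_anti KT ha.2⟩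
    (mem_C.2 fun y hy => (mem_C.1 hy a (k1 ha)).symm) a1
  rw [e, h.lc_oneL ha.1 (k4 this), mul_one]
  exact hx'

/-- PROOF. `E ⊓ L = T₁`, `E ⊓ M = T₂`, `t ∈ Pm` (`G1_Pm`, `norm0`).  In the second case of `b1`
replace `g` by `t g` (`sT`, `centralizer_cj`).  In the first case `g ∈ N(Z₁) ⊓ N(Z₂)` (`cZ`, `cG`), so
also `t g t⁻¹ ∈ N(E) ⊓ N(Z₁)`.  `(locP h.T0 le_rfl).1.mu`: `cA` (or `cB`) for `g` and `t g t⁻¹` gives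
`g ∈ N(T₁) ⊓ N(T₂)`; `b2`, `mem_Pm`. -/
theorem lemC (uq : StdL.Uq (G1 L M) t) (hE : E ≤ S) (h1 : S ⊓ L ≤ E) (tE : t ∈ 𝐍[E])
    (hg : g ∈ 𝐍[E]) : g ∈ Pm L M E := by
  have h2 : S ⊓ M ≤ E := h.lc_tT ▸ cj_le_of_mem_normalizer h1 tE
  have e1 : E ⊓ L = S ⊓ L := le_antisymm (inf_le_inf_right _ hE) (le_inf h1 inf_le_right)
  have e2 : E ⊓ M = S ⊓ M := le_antisymm (inf_le_inf_right _ hE) (le_inf h2 inf_le_right)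
  have tP : t ∈ Pm L M E := h.toWf.G1_Pm h.toWf.tG (h.toWf.norm0 (hE.trans h.SG) h.toWf.tG tE)
  have key : ∀ g ∈ 𝐍[E], cj(g, S ⊓ L) ≤ 𝐂[S ⊓ M] → cj(g, S ⊓ M) ≤ 𝐂[S ⊓ L] → g ∈ Pm L M E := by
    intro g hg c1 c2
    have z1 := h.cZ hE h1 h2 hg c1 c2
    have hg' : t * g * t⁻¹ ∈ 𝐍[E] := mul_mem (mul_mem tE hg) (inv_mem tE)
    have z2 : t * g * t⁻¹ ∈ 𝐍[Zt (S ⊓ L)] := by
      rw [← h.symm.lc_tZ, normalizer_cj]; exact conj_mem_cj t (h.cG hE h1 h2 hg z1).1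
    obtain ⟨l, e⟩ := h.locP h.T0 le_rfl
    have mu := l.mu
    rw [e] at mu
    refine mem_Pm.2 ⟨h.b2 hE h1 h2 hg, Or.inl ?_⟩
    rw [e1, e2]
    have k3 := le_normalizer_commutator h.nT h.nT
    refine ⟨?_, h.cB uq hE h1 h2 hg z1 h.c2 le_rfl k3 mu⟩
    have := h.cB uq hE h1 h2 hg' z2 h.c2 le_rfl k3 mu
    rwa [← h.lc_tT, normalizer_cj, conj_mem_cj_iff] at this
  rcases h.b1 hE h1 h2 hg with ⟨c1, c2, -⟩ | ⟨c1, c2, -⟩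
  · exact key g hg c1 c2
  · refine (mul_mem_cancel_left tP).1 (key _ (mul_mem tE hg) ?_ ?_)
    · rw [cj_mul, ← h.lc_tT, centralizer_cj]; exact cj_mono t c1
    · rw [cj_mul]
      conv_rhs => rw [← h.lc_tT', centralizer_cj]
      exact cj_mono t c2

end Cx

end Cfsg.Agent.WfT
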