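import Cfsg.Agent.WfT.LemA
import Cfsg.Agent.WfT.LemC
import Cfsg.Agent.WfS.Chn
import Cfsg.Agent.WfS.Dt

/-! The local step of the control theorem (notation of `LemB`, `LemA`; `H = Pm L M E`). -/

set_option autoImplicit false
set_option linter.unusedSectionVars false

namespace Cfsg.Agent.WfT

open Subgroup Cfsg.Agent.PLocal.Amb Cfsg.Agent.Wr Cfsg.Agent.WfS
open scoped commutatorElement

variable {G : Type*} [Group G] [Finite G] {L M S E N H A B : Subgroup G} {t z z' w g n x k : G}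

/-- the elements `x ∈ N(A)` with `[x, B] ≤ A` -/
def LcCm (A B : Subgroup G) : Subgroup G where
  carrier := {x | x ∈ 𝐍[A] ∧ ∀ e ∈ B, x * e * x⁻¹ * e⁻¹ ∈ A}
  one_mem' := ⟨one_mem _, fun e _ => by simp⟩
  mul_mem' := fun {p q} hp hq => ⟨mul_mem hp.1 hq.1, fun e he => by
    convert mul_mem (conj_mem_of_mem_normalizer hp.1 (hq.2 e he)) (hp.2 e he) using 1; group⟩
  inv_mem' := fun {p} hp => ⟨inv_mem hp.1, fun e he => by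
    convert inv_conj_mem_of_mem_normalizer hp.1 (inv_mem (hp.2 e he)) using 1; group⟩

theorem lcCm_of (hA : A ≤ B) (h : ∀ e ∈ B, x * e * x⁻¹ * e⁻¹ ∈ A) : x ∈ LcCm A B :=
  ⟨mem_norm_of_comm hA h, h⟩

theorem lcCm_conj (h : x ∈ LcCm A B) (hn : n ∈ 𝐍[B]) : n * x * n⁻¹ ∈ LcCm cj(n, A) B :=
  ⟨normalizer_cj n A ▸ conj_mem_cj n h.1, fun e he => by
    convert conj_mem_cj n (h.2 _ (inv_conj_mem_of_mem_normalizer hn he)) using 1; group⟩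

theorem lc_nmem (hn : n ∈ 𝐍[E]) (h : x ∉ E) : n * x * n⁻¹ ∉ E := fun k => h (by
  simpa [mul_assoc] using inv_conj_mem_of_mem_normalizer hn k)

theorem lc_sq (hn : n ∈ 𝐍[E]) (h : x * x ∈ E) : n * x * n⁻¹ * (n * x * n⁻¹) ∈ E := by
  rw [conj_mul]; exact conj_mem_of_mem_normalizer hn h

namespace Lx
variable (h : Lx L M t S z z' w E N)
include h

theorem EG : E ≤ G1 L M := h.ES.trans h.SG

theorem GP (h1 : x ∈ G1 L M) (h2 : x ∈ 𝐍[E]) : x ∈ Pm L M E := h.G1_Pm h1 (h.norm0 h.EG h1 h2)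

theorem pz (x2 : x * x ∈ E) : IsPGroup 2 (zpowers x) :=
  isPGroup_zpowers ((h.pow (h.ES x2)).elim fun m e => ⟨m + 1, by rw [pow_succ', pow_mul, sq, e]⟩)

/-- `G1_Pm`, `norm0` -/
theorem tP : t ∈ Pm L M E := h.GP h.tG h.tE

theorem EP : E ≤ Pm L M E := fun _ he => h.GP (h.EG he) (le_normalizer he)

theorem ut (PH : Pm L M E ≤ H) (hn : n ∈ 𝐍[E ⊓ 𝐍[L]]) (e : n⁻¹ * t * n ∈ H) : n ∈ H := by
  obtain ⟨c, hc, k⟩ := h.uq.fus' h.uq (C := H ⊓ 𝐍[E ⊓ 𝐍[L]]) (g := n⁻¹) (mem_inf.2 ⟨by rwa [inv_inv],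
    mul_mem (mul_mem (inv_mem hn) (Pm_le h.tP)) (inv_mem (inv_mem hn))⟩) ⟨PH h.tP, Pm_le h.tP⟩
  rw [mem_inf] at hc
  exact inv_mem_iff.1 ((mul_mem_cancel_left hc.1).1 (PH (h.G1_Pm k (mul_mem hc.2 (inv_mem hn)))))

theorem ut' (hn : n ∈ 𝐍[E]) (e : n⁻¹ * t * n ∈ 𝐍[E ⊓ 𝐍[L]]) : n ∈ 𝐍[E ⊓ 𝐍[L]] := by
  obtain ⟨c, hc, k⟩ := h.uq.fus' h.uq (C := 𝐍[E ⊓ 𝐍[L]] ⊓ 𝐍[E]) (g := n⁻¹) (mem_inf.2 ⟨by rwa [inv_inv],
    mul_mem (mul_mem (inv_mem hn) h.tE) (inv_mem (inv_mem hn))⟩) ⟨Pm_le h.tP, h.tE⟩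
  rw [mem_inf] at hc
  exact inv_mem_iff.1 ((mul_mem_cancel_left hc.1).1 (h.norm0 h.EG k (mul_mem hc.2 (inv_mem hn))))

theorem ux' (PH : Pm L M E ≤ H) (hx : x ∈ N ⊓ H) (xE : x ∉ E) (x2 : x * x ∈ E) (hg : g ∈ N)
    (e : g⁻¹ * x * g ∈ H) : g ∈ H := by
  have := Fact.mk Nat.prime_two
  obtain ⟨T, hT, -, tT⟩ := exists_inv_syl (Y := N ⊓ H) (R := ⊥) h.tt
    (inf_normalizer_le_normalizer_inf ⟨h.tn, le_normalizer (PH h.tP)⟩) IsPGroup.of_bot bot_le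
    (by rw [← cj_eq_iff, cj_bot])
  have TG := h.uq.le_of_norm hT.pgrp tT
  obtain ⟨a, ha, k⟩ := hT.exists_cj_le (h.pz x2) (zpowers_le.2 hx)
  obtain ⟨b, hb, k'⟩ := hT.exists_cj_le (h.pz (x := g⁻¹ * x * g) (by
    simpa using lc_sq (inv_mem (h.NE hg)) x2)) (zpowers_le.2 (mem_inf.2 ⟨mul_mem (mul_mem (inv_mem hg) hx.1) hg, e⟩))
  rw [mem_inf] at ha hb
  have k := k (conj_mem_cj a (mem_zpowers _))
  have := PH (h.ux _ ⟨(hT.le k).1, TG k⟩ (lc_nmem (h.NE ha.1) xE) (lc_sq (h.NE ha.1) x2) (a * g * b⁻¹)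
    (mul_mem (mul_mem ha.1 hg) (inv_mem hb.1)) (by
      convert TG (k' (conj_mem_cj b (mem_zpowers _))) using 1; group))
  rwa [mul_mem_cancel_right (inv_mem hb.2), mul_mem_cancel_left ha.2] at this

theorem kt (hk : k ∈ N) (k2 : k * k ∈ E) (e : k⁻¹ * (t * k * t⁻¹) ∈ E) :
    k⁻¹ * (t * k * t⁻¹) ∈ E ⊓ 𝐍[L] := by
  have := h.uq.le_of_norm (pg_sup (h.syl.pgrp.to_le h.ES) (h.NE hk) k2) (mem_normalizer_of_cj_le (by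
    rw [cj_sup, cj_of_mem_normalizer h.tE, MonoidHom.map_zpowers]
    exact sup_le le_sup_left (zpowers_le.2 (by
      simpa using mul_mem (mem_sup_right (mem_zpowers k)) (mem_sup_left e))))) (mem_sup_right (mem_zpowers k))
  exact ⟨e, by simpa [mul_assoc] using h.comm_mem (inv_mem this) h.tG⟩

theorem chn (hn : n ∈ 𝐍[E ⊓ 𝐍[L]]) {a b : G}
    (ha : ∀ e ∈ E ⊓ 𝐍[L], a * e * a⁻¹ * e⁻¹ ∈ cj(n, E ⊓ L))
    (hb : ∀ e ∈ E ⊓ 𝐍[L], b * e * b⁻¹ * e⁻¹ ∈ cj(n, E ⊓ M)) (hab : a⁻¹ * b ∈ E ⊓ 𝐍[L])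
    (hg : g ∈ 𝐍[E ⊓ 𝐍[L]]) : g⁻¹ * a * g ∈ Pm L M E ∧ g⁻¹ * b * g ∈ Pm L M E := by
  obtain ⟨T, hT, tT⟩ := exists_isSyl_ge (StdL.isPGroup_zp h.tt) (zpowers_le.2 (Pm_le h.tP))
  have TP : T ≤ Pm L M E := fun _ k => h.G1_Pm (h.uq.le hT.pgrp (tT (mem_zpowers t)) k) (hT.le k)
  have hE : IsPGroup 2 (E ⊓ 𝐍[L] : Subgroup G) := h.syl.pgrp.to_le (inf_le_left.trans h.ES)
  have hA := cj_le_of_mem_normalizer (inf_le_inf_left E (le_normalizer (H := L))) hn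
  have hB := cj_le_of_mem_normalizer (inf_le_inf_left E h.MN) hn
  have nn : ∀ {K : Subgroup G}, E ⊓ 𝐍[L] ≤ 𝐍[K] → E ⊓ 𝐍[L] ≤ 𝐍[cj(n, E ⊓ K)] := fun k => by
    rw [normalizer_cj, ← cj_of_mem_normalizer hn]
    exact cj_mono _ (le_normalizer_inf (inf_le_left.trans le_normalizer) k)
  have nA := nn inf_le_right
  have nB := nn (h.inf_eq h.EG ▸ inf_le_right : _ ≤ 𝐍[M])
  have hAB : cj(n, E ⊓ L) ⊓ cj(n, E ⊓ M) = ⊥ := by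
    rw [← cj_inf, cj_eq_bot, eq_bot_iff]
    exact fun y k => h.one (h.ES k.1.1) (h.com k.2.2) (h.com' k.1.2)
  exact ⟨chain hE hT TP h.C_Pm hA hB nA nB hAB ha hb hab hg,
    chain hE hT TP h.C_Pm hB hA nB nA ((inf_comm _ _).trans hAB) hb ha (by simpa using inv_mem hab) hg⟩

/-- a swapping `r ∈ G1 ⊓ N(E)` interchanges `E₁^n` and `E₂^n` for `n ∈ Pm` (`mem_Pm`, `swap`) -/
theorem sw (hn : n ∈ Pm L M E) {r : G} (r1 : r ∈ G1 L M) (r2 : r ∉ 𝐍[L]) (r3 : r ∈ 𝐍[E]) :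
    cj(r, cj(n, E ⊓ L)) = cj(n, E ⊓ M) ∧ cj(r, cj(n, E ⊓ M)) = cj(n, E ⊓ L) := by
  obtain ⟨e1, e2⟩ := h.swap r1 r2
  rcases (mem_Pm.1 hn).2 with ⟨k1, k2⟩ | ⟨k1, k2⟩
  · rw [cj_of_mem_normalizer k1, cj_of_mem_normalizer k2, cj_inf, cj_inf, cj_of_mem_normalizer r3, e1, e2]
    exact ⟨rfl, rfl⟩
  · rw [k1, k2, cj_inf, cj_inf, cj_of_mem_normalizer r3, e1, e2]
    exact ⟨rfl, rfl⟩

theorem sq0 (h1 : x ∈ 𝐍[E]) (h2 : x ∈ 𝐍[E ⊓ 𝐍[L]]) (x2 : x * x ∈ E) : x * x ∈ E ⊓ 𝐍[L] := by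
  have := Fact.mk Nat.prime_two
  obtain ⟨T, hT, tT⟩ := exists_isSyl_ge (L := 𝐍[E] ⊓ 𝐍[E ⊓ 𝐍[L]]) (StdL.isPGroup_zp h.tt)
    (zpowers_le.2 ⟨h.tE, Pm_le h.tP⟩)
  obtain ⟨m, hm, k⟩ := hT.exists_cj_le (h.pz x2) (zpowers_le.2 ⟨h1, h2⟩)
  simpa [mul_assoc] using lc_sq (inv_mem (mem_inf.1 hm).2) (x := m * x * m⁻¹) ⟨lc_sq hm.1 x2,
    h.sq_mem (h.uq.le hT.pgrp (tT (mem_zpowers t)) (k (conj_mem_cj m (mem_zpowers _))))⟩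

theorem cm (hx : x ∈ L) (xN : x ∈ 𝐍[E]) : x ∈ LcCm (E ⊓ L) (E ⊓ 𝐍[L]) :=
  lcCm_of (inf_le_inf_left E le_normalizer) fun e he =>
    ⟨E.mul_mem (conj_mem_of_mem_normalizer xN he.1) (E.inv_mem he.1), by
      simpa [mul_assoc] using mul_mem hx (conj_mem_of_mem_normalizer he.2 (inv_mem hx))⟩

theorem dt' (ut : ∀ n ∈ N, n⁻¹ * t * n ∈ Pm L M E → n ∈ 𝐍[E ⊓ 𝐍[L]]) (hx : x ∈ L ⊔ M) (xN : x ∈ 𝐍[E])
    (xE : x ∉ E) (x2 : x * x ∈ E) (hg : g ∈ N) (gH : g ∉ Pm L M E) :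
    ∃ n ∈ N ⊓ Pm L M E, n * x * n⁻¹ ∈ N ⊓ Pm L M E ∧
      (n * x * n⁻¹)⁻¹ * (t * (n * x * n⁻¹) * t⁻¹) ∈ E ⊓ 𝐍[L] ∧
      g⁻¹ * (t * (n * x * n⁻¹)) * g ∈ Pm L M E := by
  have hx : x ∈ N ⊓ Pm L M E := ⟨h.LN ⟨hx, xN⟩, h.GP (sup_le h.LG h.MG hx) xN⟩
  obtain ⟨n, hn, e1, e2⟩ := dt h.tt h.tN h.tn h.tP h.NE h.tE h.EN h.EP
    (fun n hn e => h.ut le_rfl (ut n hn e) e) (fun y hy yE y2 n hn e => h.ux' le_rfl hy yE y2 hn e)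
    hx xE x2 hg gH
  have hk := mul_mem (mul_mem hn hx) (inv_mem hn)
  exact ⟨n, hn, hk, h.kt hk.1 (lc_sq (h.NE hn.1) x2) e1, e2⟩

theorem n0 : N ≤ 𝐍[E ⊓ 𝐍[L]] := by
  by_contra k0
  obtain ⟨s, sE, sN⟩ : ∃ s ∈ E, s ∉ 𝐍[L] :=
    SetLike.not_le_iff_exists.1 fun k => k0 (by rw [inf_eq_left.2 k]; exact h.NE)
  have ax : Ax L M t S z z' w E N s := ⟨h.toCx, h.ES, sE, sN, h.NE, h.LN, fun x hx xE x2 g hg k =>
    h.ux' Pm_le ⟨hx.2, h.norm0 h.EG (h.SG hx.1) (h.NE hx.2)⟩ xE x2 hg (mem_cj.1 (normalizer_cj g _ ▸ k)),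
    SetLike.not_le_iff_exists.1 k0⟩
  obtain ⟨g, gN, gn, gz, A1, A2, x, xT, xN, xE, x2⟩ := ax.lemA
  obtain ⟨n, hn, hk, e1, e2⟩ := h.dt' (fun n hn e => h.ut' (h.NE hn) (Pm_le e)) (mem_sup_left xT.2)
    (h.NE xN) xE x2 gN fun k => gn (Pm_le k)
  have c1 := lcCm_conj (h.cm xT.2 (h.NE xN)) (Pm_le hn.2)
  have kE := lc_nmem (h.NE hn.1) xE
  have k2 := lc_sq (h.NE hn.1) x2
  have k2' : n * x * n⁻¹ * (n * x * n⁻¹) ∈ cj(n, E ⊓ L) := by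
    rw [conj_mul]; exact conj_mem_cj n ⟨x2, mul_mem xT.2 xT.2⟩
  generalize n * x * n⁻¹ = k at *
  have kN := h.NE hk.1
  have gE := h.NE gN
  have m1 : t * k * t⁻¹ * k ∈ E := by
    convert mul_mem (conj_mem_of_mem_normalizer kN e1.1) k2 using 1; group
  have m2 : t * k * t⁻¹ * k ∈ cj(g, E ⊓ 𝐍[L]) := by
    have e : g⁻¹ * (t * k * t⁻¹ * k) * g = g⁻¹ * (t * k) * g * (g⁻¹ * (t * k) * g) := by rw [h.inv]; group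
    rw [mem_cj, e]
    exact h.sq0 (mul_mem (mul_mem (inv_mem gE) (mul_mem h.tE kN)) gE) (Pm_le e2)
      (e ▸ inv_conj_mem_of_mem_normalizer gE m1)
  have c2 := mul_mem ((h.sw hn.2 (h.EG sE) sN (le_normalizer sE)).1 ▸ lcCm_conj c1 (Pm_le (h.EP sE)))
    (inv_mem ((h.sw hn.2 h.tG h.toWf.tN h.tE).1 ▸ lcCm_conj c1 (Pm_le h.tP)))
  obtain ⟨B1, B2⟩ : cj(n, E ⊓ L) ≤ cj(g, E ⊓ 𝐍[L]) ∧ (cj(n, E ⊓ M) ≤ L ∨ cj(n, E ⊓ M) ≤ M) := by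
    rcases (mem_Pm.1 hn.2).2 with ⟨k1, k2⟩ | ⟨k1, k2⟩
    · rw [cj_of_mem_normalizer k1, cj_of_mem_normalizer k2]; exact ⟨A1, .inr inf_le_right⟩
    · rw [k1, k2]; exact ⟨A2, .inl inf_le_right⟩
  have m3 := inv_mem (c2.2 _ ⟨conj_mem_of_mem_normalizer gE ax.zE, gz⟩)
  have m4 := ax.r2 gN (e := s * k * s⁻¹ * (t * k * t⁻¹)⁻¹) (by
    convert mul_mem (mul_mem (mul_mem sE (conj_mem_of_mem_normalizer kN (inv_mem sE))) k2) (inv_mem m1) using 1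
    group) (B2.imp (fun k => by convert k m3 using 1; group) fun k => by convert k m3 using 1; group)
  have m5 := inv_mem (mul_mem (mul_mem m4 m2) (inv_mem (B1 k2')))
  refine gn (h.ux' Pm_le ⟨hk.1, Pm_le hk.2⟩ kE k2 gN (mem_cj.1 (normalizer_cj g _ ▸
    mem_norm_of_comm (cj_le_of_mem_normalizer inf_le_left gE) fun e he => ?_)))
  by_cases eN : e ∈ 𝐍[L]
  · exact B1 (c1.2 e ⟨he, eN⟩)
  have he' : e * s⁻¹ ∈ E ⊓ 𝐍[L] := ⟨E.mul_mem he (E.inv_mem sE),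
    h.mul_sw (h.EG he) (inv_mem (h.EG sE)) eN fun k => sN (inv_mem_iff.1 k)⟩
  convert mul_mem (B1 (c1.2 _ he')) (conj_mem_of_mem_normalizer (normalizer_cj g _ ▸ mem_cj.2
    (Pm_le (h.EP (inv_conj_mem_of_mem_normalizer gE he'.1)))) m5) using 1
  group

theorem i1 (hx : x ∈ S ⊓ L) (xE : x ∉ E) (x2 : x * x ∈ E) (xN : x ∈ 𝐍[E]) : N ≤ Pm L M E := by
  intro g gN
  by_contra gP
  obtain ⟨n, hn, hk, e1, -⟩ := h.dt' (fun n hn _ => h.n0 hn) (mem_sup_left hx.2) xN xE x2 gN gP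
  have c1 := lcCm_conj (h.cm hx.2 xN) (Pm_le hn.2)
  exact gP (h.ux' le_rfl hk (lc_nmem (h.NE hn.1) xE) (lc_sq (h.NE hn.1) x2) gN (h.chn (Pm_le hn.2) c1.2
    ((h.sw hn.2 h.tG h.toWf.tN h.tE).1 ▸ lcCm_conj c1 (Pm_le h.tP)).2 e1 (h.n0 gN)).1)

theorem i2 (hx : x ∈ S ⊓ L) (x2 : x * x ∈ E) (xN : x ∉ 𝐍[E])
    (hc : ∀ e ∈ E ⊓ 𝐍[L], x * e * x⁻¹ * e⁻¹ ∈ E ⊓ L) : N ≤ Pm L M E := by
  intro g gN
  by_contra gP
  obtain ⟨s, sE, sN⟩ : ∃ s ∈ E, s ∉ 𝐍[L] := SetLike.not_le_iff_exists.1 fun k =>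
    xN (mem_norm_of_comm le_rfl fun e he => (hc e ⟨he, k he⟩).1)
  obtain ⟨v1, v2, v3, v4⟩ := h.x12 h.ES sE sN hx x2 hc
  have yM : s * x * s⁻¹ ∈ M := (h.swap (h.EG sE) sN).1 ▸ conj_mem_cj s hx.2
  generalize s * x * s⁻¹ = y at *
  obtain ⟨n, hn, hk, e1, e2⟩ := h.dt' (fun n hn _ => h.n0 hn) (mul_mem (mem_sup_left hx.2) (mem_sup_right yM))
    (mem_norm_of_comm le_rfl fun e he => sup_le (c := E) inf_le_left inf_le_left (v1 e he)) (mt v3 xN) v2 gN gP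
  have c1 := lcCm_conj (lcCm_of (inf_le_inf_left E le_normalizer) hc) (Pm_le hn.2)
  have c2 := lcCm_conj (lcCm_of (inf_le_inf_left E h.MN) v4) (Pm_le hn.2)
  rw [mem_inf] at hn
  have kP := mul_mem (mul_mem hn.2 (h.G1_Pm (h.LG hx.2)
    (mem_norm_of_comm le_rfl fun e he => ⟨(hc e he).1, le_normalizer (hc e he).2⟩))) (inv_mem hn.2)
  have k2 := lc_sq (h.NE hn.1) x2
  have cc := conj_comm (g := n) (h.comm hx.2 yM)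
  rw [← conj_mul, cc] at hk e1 e2
  generalize n * x * n⁻¹ = k₁, n * y * n⁻¹ = k₂ at *
  obtain ⟨s1, s2⟩ := h.sw hn.2 h.tG h.toWf.tN h.tE
  have := (h.chn (Pm_le hn.2) (mul_mem (inv_mem c1) (s2 ▸ lcCm_conj c2 (Pm_le h.tP))).2
    (mul_mem c2 (inv_mem (s1 ▸ lcCm_conj c1 (Pm_le h.tP)))).2 (by
      convert conj_mem_of_mem_normalizer (Pm_le (mul_mem (mul_mem h.tP kP) (inv_mem h.tP))) (inv_mem e1) using 1
      simp [mul_assoc, ← mul_assoc k₁ k₂, cc]) (h.n0 (mul_mem hk.1 gN))).2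
  refine gP ((mul_mem_cancel_left (inv_mem kP)).1 (h.ut le_rfl (mul_mem (inv_mem (Pm_le kP)) (h.n0 gN)) ?_))
  convert mul_mem (mul_mem e2 (inv_mem this)) (h.EP (inv_conj_mem_of_mem_normalizer (h.NE gN) (inv_mem k2)))
    using 1
  simp [mul_assoc, h.inv, ← mul_assoc t t, h.tt]

theorem le : N ≤ Pm L M E := by
  by_cases h1 : S ⊓ L ≤ E
  · exact fun g hg => h.toCx.lemC h.uq h.ES h1 h.tE (h.NE hg)
  obtain ⟨x, hx, xE, x2, hc⟩ := h.toCx.exists_x1 h.ES h1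
  by_cases xN : x ∈ 𝐍[E]
  · exact h.i1 hx xE x2 xN
  · exact h.i2 hx x2 xN hc

end Lx

end Cfsg.Agent.WfT
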