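import Cfsg.Agent.WfT.LemB

/-! Subgroups `E ≤ S` with swapping elements whose `E⁰` is moved by `N ≤ N(E)` (notation of `LemB`;
`E₁ = E ⊓ L`, `E₂ = E ⊓ M`, `u = z z'`). -/

set_option autoImplicit false
set_option linter.unusedSectionVars false

namespace Cfsg.Agent.WfT

open Subgroup Cfsg.Agent.PLocal.Amb Cfsg.Agent.Wr Cfsg.Agent.WfS
open scoped commutatorElement

variable {G : Type*} [Group G] [Finite G] {L M S E N : Subgroup G} {t z z' w g s e : G}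

/-- commutators with `v` are tested on `E⁰` and one swapping element -/
theorem Wf.la_split (h : Wf L M t) (hE : E ≤ G1 L M) {A : Subgroup G} (nA : E ≤ 𝐍[A]) {v r : G}
    (rE : r ∈ E) (rN : r ∉ 𝐍[L]) (h0 : ∀ e ∈ E ⊓ 𝐍[L], v * e * v⁻¹ * e⁻¹ ∈ A)
    (hr : v * r * v⁻¹ * r⁻¹ ∈ A) : ∀ e ∈ E, v * e * v⁻¹ * e⁻¹ ∈ A := by
  intro e he
  by_cases eN : e ∈ 𝐍[L]
  · exact h0 e ⟨he, eN⟩
  have m := mul_mem he (inv_mem rE)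
  have := mul_mem (h0 _ ⟨m, h.mul_sw (hE he) (hE (inv_mem rE)) eN fun c => rN (inv_mem_iff.1 c)⟩)
    (conj_mem_of_mem_normalizer (nA m) hr)
  rwa [show v * (e * r⁻¹) * v⁻¹ * (e * r⁻¹)⁻¹ * (e * r⁻¹ * (v * r * v⁻¹ * r⁻¹) * (e * r⁻¹)⁻¹) =
    v * e * v⁻¹ * e⁻¹ by group] at this

theorem Wf.la_norm (h : Wf L M t) (hE : E ≤ G1 L M) (hg : g ∈ 𝐍[E]) :
    cj(g, E ⊓ 𝐍[L]) ≤ E ∧ E ≤ 𝐍[cj(g, E ⊓ 𝐍[L])] := by
  refine ⟨cj_le_of_mem_normalizer inf_le_left hg, fun e he => ?_⟩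
  have m := inv_conj_mem_of_mem_normalizer hg he
  rw [normalizer_cj, mem_cj]
  exact h.norm0 hE (hE m) (le_normalizer m)

theorem la_comm {x u : G} (x2 : x * x = 1) (h : e * x * e⁻¹ = x * u) : x * e * x⁻¹ * e⁻¹ = u := by
  rw [inv_eq_of_sq x2, mul_assoc, mul_assoc, ← mul_assoc e, h, ← mul_assoc, x2, one_mul]

namespace Cx
variable (h : Cx L M t S z z' w)
include h

theorem la_uS : z * z' ∈ S ⊓ 𝐍[L] := mul_mem (h.T0 h.zT) (h.T0' h.symm.zT)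

theorem la_u2 : z * z' * (z * z') = 1 := by
  rw [Commute.mul_mul_mul_comm (show Commute z' z from h.zz'.symm) z z', h.zz, h.symm.zz, one_mul]

theorem la_wz : w * z = z * w := conj_eq_iff.1 (h.zS w (h.T0 h.wT))

/-- the element `x = w w^r` -/
theorem la_x {r : G} (rS : r ∈ S) (rN : r ∉ 𝐍[L]) (r2 : r * r = 1) :
    w * (r * w * r⁻¹) ∈ S ⊓ (L ⊔ M) ∧ w * (r * w * r⁻¹) * (w * (r * w * r⁻¹)) = 1 ∧
    r * (w * (r * w * r⁻¹)) = w * (r * w * r⁻¹) * r ∧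
    z * (w * (r * w * r⁻¹)) = w * (r * w * r⁻¹) * z ∧
    w * z * (r * (w * z) * r⁻¹) = w * (r * w * r⁻¹) * (z * z') ∧
    ∀ e ∈ S ⊓ 𝐍[L], e * r = r * e →
      (e * w * e⁻¹ = w ∧ e * (w * (r * w * r⁻¹)) * e⁻¹ = w * (r * w * r⁻¹)) ∨
      e * (w * (r * w * r⁻¹)) * e⁻¹ = w * (r * w * r⁻¹) * (z * z') := by
  have m : r * w * r⁻¹ ∈ S ⊓ M := (h.sT rS rN).1 ▸ conj_mem_cj r h.wT
  have c1 : Commute w (r * w * r⁻¹) := h.toWf.comm h.wT.2 m.2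
  have c2 : Commute z (r * w * r⁻¹) := h.toWf.comm h.zT.2 m.2
  have e5 : w * z * (r * (w * z) * r⁻¹) = w * (r * w * r⁻¹) * (z * z') := by
    rw [← conj_mul, (h.zs rS rN).1, c2.mul_mul_mul_comm]
  refine ⟨⟨mul_mem h.wT.1 m.1, mul_mem_sup h.wT.2 m.2⟩, ?_, ?_, ?_, e5, fun e he c => ?_⟩
  · rw [c1.symm.mul_mul_mul_comm, h.ww, conj_sq h.ww, one_mul]
  · rw [← conj_eq_iff, ← conj_mul, c1.eq]
    congr 1
    calc r * (r * w * r⁻¹) * r⁻¹ = (r * r) * w * (r * r)⁻¹ := by group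
      _ = w := by rw [r2]; simp
  · exact (Commute.mul_right h.la_wz.symm c2).eq
  · have e1 : e * (r * w * r⁻¹) * e⁻¹ = r * (e * w * e⁻¹) * r⁻¹ := by
      calc e * (r * w * r⁻¹) * e⁻¹ = (e * r) * w * (e * r)⁻¹ := by group
        _ = _ := by rw [c]; group
    rw [← conj_mul, e1]
    rcases h.wS e he with k | k <;> rw [k]
    · exact Or.inl ⟨rfl, rfl⟩
    · exact Or.inr e5

end Cx

/-- the hypotheses: elements of `S ⊓ N` outside `E` fix only `E⁰` in its `N`-orbit -/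
structure Ax (L M : Subgroup G) (t : G) (S : Subgroup G) (z z' w : G) (E N : Subgroup G) (s : G) :
    Prop extends Cx L M t S z z' w where
  ES : E ≤ S
  sE : s ∈ E
  sN : s ∉ 𝐍[L]
  NE : N ≤ 𝐍[E]
  LN : (L ⊔ M) ⊓ 𝐍[E] ≤ N
  se : ∀ x ∈ S ⊓ N, x ∉ E → x * x ∈ E → ∀ g ∈ N, x ∈ 𝐍[cj(g, E ⊓ 𝐍[L])] → g ∈ 𝐍[E ⊓ 𝐍[L]]
  ex : ∃ g ∈ N, g ∉ 𝐍[E ⊓ 𝐍[L]]

namespace Ax
variable (h : Ax L M t S z z' w E N s)
include h

theorem EG : E ≤ G1 L M := h.ES.trans h.SG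

theorem iv (hg : g ∈ N) (he : e ∈ E) : g⁻¹ * e * g ∈ E := inv_conj_mem_of_mem_normalizer (h.NE hg) he

theorem memN {x : G} (hx : x ∈ L ⊔ M) (hc : ∀ e ∈ E, x * e * x⁻¹ * e⁻¹ ∈ E) : x ∈ N :=
  h.LN ⟨hx, mem_norm_of_comm le_rfl hc⟩

theorem se' {x : G} (hx : x ∈ S ⊓ (L ⊔ M)) (xE : x ∉ E) (x2 : x * x ∈ E) (hg : g ∈ N)
    (hc : ∀ e ∈ E, x * e * x⁻¹ * e⁻¹ ∈ cj(g, E ⊓ 𝐍[L])) : g ∈ 𝐍[E ⊓ 𝐍[L]] :=
  have k := (h.toWf.la_norm h.EG (h.NE hg)).1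
  h.se x ⟨hx.1, h.memN hx.2 fun e he => k (hc e he)⟩ xE x2 g hg (mem_norm_of_comm k hc)

theorem cu (hg : g ∈ N) (he : e ∈ E) : e * (g * (z * z') * g⁻¹) = g * (z * z') * g⁻¹ * e :=
  conj_eq_iff.1 (lb_cj (h.zzS (h.ES (h.iv hg he))))

theorem cy (hg : g ∈ N) (he : e ∈ E) : e * (g * z * g⁻¹) * e⁻¹ = g * z * g⁻¹ ∨
    e * (g * z * g⁻¹) * e⁻¹ = g * z * g⁻¹ * (g * (z * z') * g⁻¹) := by
  rw [conj_mul]
  exact (h.zcom (h.ES (h.iv hg he))).imp lb_cj lb_cj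

/-- PROOF. `u` centralises `S` (`zzS`), so `u ∈ S ⊓ N` normalises every subgroup of `E`; `se`, `ex`. -/
theorem uE : z * z' ∈ E := by
  by_contra n
  obtain ⟨g, hg, gN⟩ := h.ex
  refine gN (h.se' ⟨h.la_uS.1, mul_mem_sup h.zT.2 h.symm.zT.2⟩ n (h.la_u2 ▸ one_mem E) hg
    fun e he => ?_)
  rw [← conj_eq_iff.1 (h.zzS (h.ES he)), mul_inv_cancel_right, mul_inv_cancel]
  exact one_mem _

/-- PROOF. Suppose `z ∉ E`; `z ∈ N(E)` as `[z, E] ≤ ⟨u⟩` (`zcom`, `mem_norm_of_comm`), `z ∈ N`.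
(*) `g ∈ N`, `u ∈ cj(g, E⁰)` imply `g ∈ N(E⁰)` (`z` normalises `cj(g, E⁰)`; `se`).  Fix
`g ∈ N \ N(E⁰)`, `A = cj(g, E⁰)`, `r = u^g ∈ A`: `r² = 1`, `E` centralises `r`, and `r ∉ N(L)` ((*) for
`g⁻¹`).  So `E₁ = ⊥` (`cen`), `w, w z ∉ E`.  `x = w w^r ∈ T₁ T₂` commutes with `r`, `x² = 1`; for
`e ∈ E⁰`, `w^e ∈ {w, w z}` and `(w^r)^e = (w^e)^r`, `z^r = z'`, so `x^e ∈ {x, x u}`; every element of
`E` is `e` or `e r` (`mul_sw`): `[x, E] ≤ ⟨u⟩`, `x ∈ N`.  `r = r^x ∈ cj(x g, E⁰)`, so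
`u ∈ cj(g⁻¹ x g, E⁰)`, (*) gives `x ∈ N(A)`, so `x ∈ E` by `se`.  If `x^e = x u` for an `e ∈ E`, then
`u = [x, e] ∈ A` (`comm_mem` applied to `g⁻¹ x g, g⁻¹ e g ∈ E`), against (*).  So `E⁰` centralises
`x`, hence `w` (and `z`).  `[w, r] = x`, `[w z, r] = x u`.  `u ∉ A`, so `x ∈ A` or `x u ∈ A`
(`mul_sw` for `g⁻¹ x g`, `g⁻¹ u g`); the corresponding `v ∈ {w, w z}` has `[v, E] ≤ A`, so normalises
`E` and `A`; `v ∉ E`, against `se`. -/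
theorem zE : z ∈ E := by
  by_contra zE
  have u0 : z * z' ∈ E ⊓ 𝐍[L] := ⟨h.uE, h.la_uS.2⟩
  have star : ∀ g ∈ N, z * z' ∈ cj(g, E ⊓ 𝐍[L]) → g ∈ 𝐍[E ⊓ 𝐍[L]] := fun g hg m =>
    h.se' ⟨h.zT.1, mem_sup_left h.zT.2⟩ zE (h.zz ▸ one_mem E) hg fun e he => by
      rcases h.zcom (h.ES he) with k | k
      · rw [la_comm h.zz (k.trans (mul_one z).symm)]; exact one_mem _
      · rwa [la_comm h.zz k]
  obtain ⟨g, hg, gN⟩ := h.ex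
  have uA : z * z' ∉ cj(g, E ⊓ 𝐍[L]) := fun m => gN (star g hg m)
  obtain ⟨AE, nA⟩ := h.toWf.la_norm h.EG (h.NE hg)
  have rE := AE (conj_mem_cj g u0)
  have r2 : g * (z * z') * g⁻¹ * (g * (z * z') * g⁻¹) = 1 := conj_sq h.la_u2
  have rN : g * (z * z') * g⁻¹ ∉ 𝐍[L] := fun m => gN (inv_mem_iff.1 (star _ (inv_mem hg)
    (mem_cj.2 (by rw [inv_inv]; exact ⟨rE, m⟩))))
  have cr := fun e (he : e ∈ E) => h.cu hg he
  have ur : g⁻¹ * (g * (z * z') * g⁻¹) * g = z * z' := by group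
  generalize g * (z * z') * g⁻¹ = r at rE r2 rN cr ur
  have E1 : ∀ a ∈ S ⊓ L, a ≠ 1 → a ∉ E := fun a ha a1 aE =>
    rN (h.cen (h.EG rE) ha.1 (Or.inr (h.toWf.com' ha.2)) a1 (cr a aE).symm)
  obtain ⟨xT, x2, xr, -, e5, hx⟩ := h.la_x (h.ES rE) rN r2
  have wr : w * r * w⁻¹ * r⁻¹ = w * (r * w * r⁻¹) := by rw [inv_eq_of_sq h.ww]; group
  have wz2 : w * z * (w * z) = 1 := by
    rw [Commute.mul_mul_mul_comm (show Commute z w from h.la_wz.symm) w z, h.ww, h.zz, one_mul]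
  have wzr : w * z * r * (w * z)⁻¹ * r⁻¹ = w * (r * w * r⁻¹) * (z * z') := by
    rw [← e5, inv_eq_of_sq wz2]; group
  generalize w * (r * w * r⁻¹) = x at xT x2 xr hx wr wzr
  have m0 : E ⊓ 𝐍[L] ≤ S ⊓ 𝐍[L] := inf_le_inf_right _ h.ES
  have xN : x ∈ N := h.memN xT.2 (h.toWf.la_split h.EG le_normalizer rE rN (fun e he => by
    rcases hx e (m0 he) (cr e he.1) with k | k
    · rw [la_comm x2 (k.2.trans (mul_one x).symm)]; exact one_mem _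
    · rw [la_comm x2 k]; exact h.uE) (by rw [← xr]; simp))
  have xE : x ∈ E := by
    by_contra xE
    refine gN (h.se x ⟨xT.1, xN⟩ xE (x2 ▸ one_mem E) g hg ?_)
    rw [normalizer_cj, mem_cj]
    refine star _ (mul_mem (mul_mem (inv_mem hg) xN) hg) (mem_cj.2 ?_)
    rw [← ur, show (g⁻¹ * x * g)⁻¹ * (g⁻¹ * r * g) * (g⁻¹ * x * g) = g⁻¹ * (x⁻¹ * (r * x)) * g by group,
      xr, inv_mul_cancel_left, ur]
    exact u0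
  have cw : ∀ e ∈ E ⊓ 𝐍[L], e * w * e⁻¹ = w := fun e he => by
    refine ((hx e (m0 he) (cr e he.1)).resolve_right fun k => uA ?_).1
    have := h.toWf.comm_mem (h.EG (h.iv hg xE)) (h.EG (h.iv hg he.1))
    rw [show g⁻¹ * x * g * (g⁻¹ * e * g) * (g⁻¹ * x * g)⁻¹ * (g⁻¹ * e * g)⁻¹ =
      g⁻¹ * (x * e * x⁻¹ * e⁻¹) * g by group, la_comm x2 k] at this
    exact mem_cj.2 ⟨h.iv hg h.uE, this⟩
  by_cases xA : x ∈ cj(g, E ⊓ 𝐍[L])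
  · refine gN (h.se' ⟨h.wT.1, mem_sup_left h.wT.2⟩ (E1 w h.wT h.w1) (h.ww ▸ one_mem E) hg
      (h.toWf.la_split h.EG nA rE rN (fun e he => ?_) (wr ▸ xA)))
    rw [la_comm h.ww ((cw e he).trans (mul_one w).symm)]; exact one_mem _
  · have m := mul_mem h.wT h.zT
    refine gN (h.se' ⟨m.1, mem_sup_left m.2⟩ (E1 _ m fun e => h.wz ?_) (wz2 ▸ one_mem E) hg
      (h.toWf.la_split h.EG nA rE rN (fun e he => ?_) (wzr ▸ mem_cj.2 ⟨h.iv hg (mul_mem xE h.uE), ?_⟩)))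
    · rw [eq_inv_of_mul_eq_one_left e, inv_eq_of_sq h.zz]
    · rw [la_comm wz2 (u := 1) (by rw [← conj_mul, cw e he, h.zS e (m0 he), mul_one])]
      exact one_mem _
    · have := h.toWf.mul_sw (h.EG (h.iv hg xE)) (h.EG (h.iv hg h.uE))
        (fun c => xA (mem_cj.2 ⟨h.iv hg xE, c⟩)) fun c => uA (mem_cj.2 ⟨h.iv hg h.uE, c⟩)
      rwa [show g⁻¹ * x * g * (g⁻¹ * (z * z') * g) = g⁻¹ * (x * (z * z')) * g by group] at this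

/-- `cj(g, E⁰) = C_E(z^g)` (`cz`) -/
theorem mem_cj0 (hg : g ∈ N) (he : e ∈ E) :
    e ∈ cj(g, E ⊓ 𝐍[L]) ↔ e * (g * z * g⁻¹) = g * z * g⁻¹ * e := by
  rw [mem_cj, ← lb_com, h.cz (h.ES (h.iv hg he))]
  exact and_iff_right (h.iv hg he)

/-- PROOF. `y = z^g`, `y e y⁻¹ e⁻¹ = y (e y e⁻¹) ∈ {1, u^g}` (`zcom` for `g⁻¹ e g`); `1 ≠ u^g ∈ E`
commutes with `s`, so is not in `C(L) ∪ C(M)` (`cen`); `mem_cj0`. -/
theorem r2 (hg : g ∈ N) (he : e ∈ E)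
    (hc : g * z * g⁻¹ * e * (g * z * g⁻¹)⁻¹ * e⁻¹ ∈ L ∨ g * z * g⁻¹ * e * (g * z * g⁻¹)⁻¹ * e⁻¹ ∈ M) :
    e ∈ cj(g, E ⊓ 𝐍[L]) := by
  refine (h.mem_cj0 hg he).2 (conj_eq_iff.1 ((h.cy hg he).resolve_right fun k => h.sN ?_))
  rw [la_comm (conj_sq h.zz) k] at hc
  exact h.cen (h.EG h.sE) (h.ES (conj_mem_of_mem_normalizer (h.NE hg) h.uE))
    (hc.symm.imp (fun c => h.com c) fun c => h.toWf.com' c)
    (fun e => h.zz1 (conj_eq_one_iff.1 e)) (h.cu hg h.sE)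

/-- PROOF. Suppose `z^g ∉ N(L)` for all `g ∈ N \ N(E⁰)`; fix such a `g`, `y = z^g ∈ E`, `A = cj(g, E⁰)`.
For `1 ≠ a ∈ E₁`, `a` does not commute with `y` (`cen`), so `y^a = y u^g`; hence `E₁ ⊆ {1, z}`,
`w ∉ E`, and `y u^g = y^z = y u` (`zs`): `u = u^g ∈ A`.  `x = w w^y` commutes with `y` and `z`,
`x² = 1`.  For `e ∈ E⁰ ⊓ C(y)`, `x^e ∈ {x, x u}` as in `zE`; every element of `E` is `e y^i z^j`
(multiply by `y` into `E⁰`, then by `z` into `C(y)`).  So `[x, E] ≤ ⟨u⟩ ≤ A`, `x ∈ N ⊓ N(A)`, `x ∈ E`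
by `se`.  Then `[w, y] = x ∈ E`, `[w, E⁰] ≤ ⟨z⟩ ≤ E`: `w ∈ N`.  `y^w = x y` commutes with `y`, so for
`k = g⁻¹ w g ∈ N`, `z^k ∈ E` commutes with `z`, `z^k ∈ N(L)`, `k ∈ N(E⁰)` by assumption, `w ∈ N(A)`,
against `se`. -/
theorem exists_g : ∃ g ∈ N, g ∉ 𝐍[E ⊓ 𝐍[L]] ∧ g * z * g⁻¹ ∈ 𝐍[L] := by
  by_contra H
  push Not at H
  obtain ⟨g, hg, gN⟩ := h.ex
  have u0 : z * z' ∈ E ⊓ 𝐍[L] := ⟨h.uE, h.la_uS.2⟩
  obtain ⟨AE, nA⟩ := h.toWf.la_norm h.EG (h.NE hg)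
  have yN := H g hg gN
  have yE := conj_mem_of_mem_normalizer (h.NE hg) h.zE
  have y2 : g * z * g⁻¹ * (g * z * g⁻¹) = 1 := conj_sq h.zz
  have cy := fun e (he : e ∈ E) => h.cy hg he
  have uA := conj_mem_cj g u0
  have zy : g⁻¹ * (g * z * g⁻¹) * g = z := by group
  generalize g * z * g⁻¹ = y at yN yE y2 cy zy
  generalize g * (z * z') * g⁻¹ = u at cy uA
  have k1 : ∀ a ∈ S ⊓ L, y * a = a * y → a = 1 := fun a ha c =>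
    by_contra fun a1 => yN (h.cen (h.EG yE) ha.1 (Or.inr (h.toWf.com' ha.2)) a1 c)
  have ez := (cy z h.zE).resolve_left fun e => h.z1 (k1 z h.zT (conj_eq_iff.1 e).symm)
  have wE : w ∉ E := fun wE => h.wz (inv_mul_eq_one.1 (k1 _ (mul_mem (inv_mem h.zT) h.wT) (lb_div
    (((cy w wE).resolve_left fun e => h.w1 (k1 w h.wT (conj_eq_iff.1 e).symm)).trans ez.symm)))).symm
  obtain rfl : z * z' = u := by
    refine mul_left_cancel (a := y) ?_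
    rw [← ez, h.zz', ← (h.zs (h.ES yE) yN).1, inv_eq_of_sq h.zz, inv_eq_of_sq y2]
    calc y * (y * z * y * z) = (y * y) * z * y * z := by group
      _ = _ := by rw [y2, one_mul]
  obtain ⟨xT, x2, xr, xz, -, hx⟩ := h.la_x (h.ES yE) yN y2
  have wr : w * y * w⁻¹ * y⁻¹ = w * (y * w * y⁻¹) := by rw [inv_eq_of_sq h.ww]; group
  generalize w * (y * w * y⁻¹) = x at xT x2 xr xz hx wr
  have m0 : E ⊓ 𝐍[L] ≤ S ⊓ 𝐍[L] := inf_le_inf_right _ h.ES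
  have xE : x ∈ E := by
    by_contra xE
    refine gN (h.se' xT xE (x2 ▸ one_mem E) hg (h.toWf.la_split h.EG nA yE yN (fun e he => ?_)
      (by rw [← xr]; simp)))
    have k : e * x * e⁻¹ = x * 1 ∨ e * x * e⁻¹ = x * (z * z') := by
      rw [mul_one]
      rcases cy e he.1 with c | c
      · exact (hx e (m0 he) (conj_eq_iff.1 c)).imp_left And.right
      · have e1 : e * x * e⁻¹ = z * (z⁻¹ * e * x * (z⁻¹ * e)⁻¹) * z⁻¹ := by group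
        rw [e1]
        rcases hx _ (mul_mem (inv_mem (h.T0 h.zT)) (m0 he)) (lb_div (c.trans ez.symm)).symm with
          k | k
        · rw [k.2]; exact Or.inl (conj_eq_iff.2 xz)
        · rw [k, ← conj_mul, conj_eq_iff.2 xz, h.zzS h.zT.1]; exact Or.inr rfl
    rcases k with k | k <;> rw [la_comm x2 k]
    · exact one_mem _
    · exact uA
  have wN : w ∈ N := h.memN (mem_sup_left h.wT.2) (h.toWf.la_split h.EG le_normalizer yE yN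
    (fun e he => by
      rcases h.wS e (m0 he) with k | k
      · rw [la_comm h.ww (k.trans (mul_one w).symm)]; exact one_mem _
      · rw [la_comm h.ww k]; exact h.zE) (wr ▸ xE))
  refine gN (h.se w ⟨h.wT.1, wN⟩ wE (h.ww ▸ one_mem E) g hg ?_)
  rw [normalizer_cj, mem_cj]
  have kN := mul_mem (mul_mem (inv_mem hg) wN) hg
  by_contra n
  refine H _ kN n ((h.cz (h.ES (conj_mem_of_mem_normalizer (h.NE kN) h.zE))).1 ?_)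
  have e1 : w * y * w⁻¹ = x * y := by rw [← wr]; group
  have e2 : g⁻¹ * w * g * z * (g⁻¹ * w * g)⁻¹ = g⁻¹ * (x * y) * g := by rw [← e1, ← zy]; group
  rw [e2, ← zy]
  calc g⁻¹ * (x * y) * g * (g⁻¹ * y * g) = g⁻¹ * (x * y * y) * g := by group
    _ = g⁻¹ * (y * (x * y)) * g := by rw [← xr, mul_assoc y, ← xr]
    _ = _ := by group

/-- PROOF. `g` from `exists_g`; `E₁, E₂ ≤ A = cj(g, E⁰)` by `r2` (`z^g ∈ N(L) ⊓ N(M)`).  If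
`T₁ ≤ E` then `T₂ = T₁^s ≤ E` and `b2` gives `g ∈ N(E⁰)`, false.  Take `x` from `exists_x1`; by
`x12`, `v = x x^s ∈ S ⊓ (L ⊔ M)` has `[v, E] ≤ E₁ E₂ ≤ A`, `v² ∈ E`, so `v ∈ N ⊓ N(A)`, `v ∈ E` by
`se`, and `x ∈ N(E)`. -/
theorem lemA : ∃ g ∈ N, g ∉ 𝐍[E ⊓ 𝐍[L]] ∧ g * z * g⁻¹ ∈ 𝐍[L] ∧ E ⊓ L ≤ cj(g, E ⊓ 𝐍[L]) ∧
    E ⊓ M ≤ cj(g, E ⊓ 𝐍[L]) ∧ ∃ x ∈ S ⊓ L, x ∈ N ∧ x ∉ E ∧ x * x ∈ E := by
  obtain ⟨g, hg, gN, yN⟩ := h.exists_g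
  have yM := (h.toWf.norm' (h.EG (conj_mem_of_mem_normalizer (h.NE hg) h.zE))).2 yN
  have a1 : E ⊓ L ≤ cj(g, E ⊓ 𝐍[L]) := fun e he =>
    h.r2 hg he.1 (Or.inl (mul_mem (conj_mem_of_mem_normalizer yN he.2) (inv_mem he.2)))
  have a2 : E ⊓ M ≤ cj(g, E ⊓ 𝐍[L]) := fun e he =>
    h.r2 hg he.1 (Or.inr (mul_mem (conj_mem_of_mem_normalizer yM he.2) (inv_mem he.2)))
  have sT := (h.sT (h.ES h.sE) h.sN).1
  obtain ⟨x, hx, xE, x2, hc⟩ := h.exists_x1 h.ES fun h1 =>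
    gN (h.b2 h.ES h1 (sT ▸ cj_le_of_mem h1 h.sE) (h.NE hg))
  obtain ⟨v1, v2, v3, -⟩ := h.x12 h.ES h.sE h.sN hx x2 hc
  have m : s * x * s⁻¹ ∈ S ⊓ M := sT ▸ conj_mem_cj s hx
  refine ⟨g, hg, gN, yN, a1, a2, x, hx, h.LN ⟨mem_sup_left hx.2, v3 (by_contra fun vE => gN ?_)⟩,
    xE, x2⟩
  exact h.se' ⟨mul_mem hx.1 m.1, mul_mem_sup hx.2 m.2⟩ vE v2 hg fun e he => sup_le a1 a2 (v1 e he)

end Ax

end Cfsg.Agent.WfT
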