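import Cfsg.Agent.WfT.Bas
import Cfsg.Agent.WfS.LemB

/-! Subgroups `E` of `S` containing `T₁ T₂` (`T₁ = S ⊓ L`, `T₂ = S ⊓ M`, `E⁰ = E ⊓ N(L)`,
`S⁰ = S ⊓ N(L)`, `Z_i = Zt T_i`, `a^g = g a g⁻¹`). -/

set_option autoImplicit false
set_option linter.unusedSectionVars false

namespace Cfsg.Agent.WfT

open Subgroup Cfsg.Agent.PLocal.Amb Cfsg.Agent.Wr Cfsg.Agent.WfS
open scoped commutatorElement

variable {G : Type*} [Group G] [Finite G] {L M S E : Subgroup G} {t z z' w g : G}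

namespace Cx
variable (h : Cx L M t S z z' w)
include h

theorem b0a (hE : E ≤ S) (h1 : S ⊓ L ≤ E) (h2 : S ⊓ M ≤ E) (hg : g ∈ 𝐍[E]) :
    S ⊓ L ≤ cj(g, E ⊓ 𝐍[L]) := by
  by_cases hN : E ≤ 𝐍[L]
  · rw [inf_eq_left.2 hN, cj_of_mem_normalizer hg]; exact h1
  obtain ⟨s, sE, sN⟩ := SetLike.not_le_iff_exists.1 hN
  have zE := h1 h.zT
  have yS := hE (conj_mem_of_mem_normalizer hg zE)
  have uS := hE (conj_mem_of_mem_normalizer hg (mul_mem zE (h2 h.symm.zT)))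
  have iv : ∀ e ∈ E, g⁻¹ * e * g ∈ E := fun e he => inv_conj_mem_of_mem_normalizer hg he
  have ey : ∀ e ∈ E, e * (g * z * g⁻¹) * e⁻¹ = g * z * g⁻¹ ∨
      e * (g * z * g⁻¹) * e⁻¹ = g * (z * (z * z')) * g⁻¹ := fun e he =>
    (h.zcom (hE (iv e he))).imp lb_cj lb_cj
  have yN : g * z * g⁻¹ ∈ 𝐍[L] := by
    by_contra yN
    have k : ∀ a ∈ S ⊓ L, g * z * g⁻¹ * a = a * (g * z * g⁻¹) → a = 1 := fun a ha c =>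
      by_contra fun a1 => yN (h.cen (h.SG yS) ha.1 (Or.inr (h.toWf.com' ha.2)) a1 c)
    obtain ⟨p, hp, q, hq, p1, q1, pq⟩ := lb_two h.card3
    have e1 := (ey p (h1 hp)).resolve_left fun e => p1 (k p hp (conj_eq_iff.1 e).symm)
    have e2 := (ey q (h1 hq)).resolve_left fun e => q1 (k q hq (conj_eq_iff.1 e).symm)
    exact pq (inv_mul_eq_one.1 (k _ (mul_mem (inv_mem hq) hp) (lb_div (e1.trans e2.symm)))).symm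
  intro a ha
  have c : a * (g * z * g⁻¹) = g * z * g⁻¹ * a := by
    refine conj_eq_iff.1 ((ey a (h1 ha)).resolve_right fun e => sN ?_)
    refine h.cen (h.SG (hE sE)) uS (Or.inr (h.toWf.com' ?_)) (by simpa using h.zz1)
      (conj_eq_iff.1 (lb_cj (h.zzS (hE (iv s sE)))))
    have := mul_mem (inv_conj_mem_of_mem_normalizer yN ha.2) (inv_mem ha.2)
    rwa [mul_assoc, mul_assoc, ← mul_assoc a, e, ← conj_mul, inv_mul_cancel_left] at this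
  exact mem_cj.2 ⟨iv a (h1 ha), (h.cz (hE (iv a (h1 ha)))).1 (lb_com.2 c)⟩

/-- PROOF. Trivial if `E ≤ N(L)` (then `E⁰ = E = cj(g, E)`).  Otherwise let `s ∈ E` swap; `y = z^g`,
`u = (z z')^g ∈ E` is centralised by `E` (`zzS` applied to `g⁻¹ e g`), `u ≠ 1`, and
`e y e⁻¹ ∈ {y, y u}` for `e ∈ E` (`zcom`).  `y ∈ N(L)`: otherwise an `a ∈ T₁` commuting with `y` is
trivial (`cen`), and for `1 ≠ a, b ∈ T₁` we get `y^a = y u = y^b`, `a = b`, against `card3`.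
So for `a ∈ T₁`: `a y a⁻¹ y⁻¹ ∈ T₁ ⊓ {1, u}`; `u ∈ T₁` commutes with `s`, against `cen`.  Hence `a`
commutes with `y`, `g⁻¹ a g ∈ E` commutes with `z`, so lies in `N(L)` (`cz`).  Same for `T₂`. -/
theorem b0 (hE : E ≤ S) (h1 : S ⊓ L ≤ E) (h2 : S ⊓ M ≤ E) (hg : g ∈ 𝐍[E]) :
    S ⊓ L ≤ cj(g, E ⊓ 𝐍[L]) ∧ S ⊓ M ≤ cj(g, E ⊓ 𝐍[L]) :=
  ⟨h.b0a hE h1 h2 hg, h.toWf.inf_eq (hE.trans h.SG) ▸ h.symm.b0a hE h2 h1 hg⟩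

theorem b1s (hE : E ≤ S) (h1 : S ⊓ L ≤ E) (h2 : S ⊓ M ≤ E) (hg : g ∈ 𝐍[E]) :
    (Zt (S ⊓ L) ≤ cj(g, S ⊓ L) ∧ cj(g, S ⊓ M) ≤ 𝐂[S ⊓ L]) ∨
    (Zt (S ⊓ L) ≤ cj(g, S ⊓ M) ∧ cj(g, S ⊓ L) ≤ 𝐂[S ⊓ L]) := by
  have m0 : E ⊓ 𝐍[L] ≤ S ⊓ 𝐍[L] := inf_le_inf_right _ hE
  obtain ⟨a1, a2⟩ := h.b0 hE h1 h2 (inv_mem hg)
  have c1 := (h.b0 hE h1 h2 hg).1
  refine h.spl ((cj_le_iff.2 a1).trans m0) ((cj_le_iff.2 a2).trans m0) (c1.trans ?_) (c1.trans ?_)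
    (fun x x1 x2 => ?_) ?_
  · rw [normalizer_cj]; exact cj_mono g (m0.trans h.nT)
  · rw [normalizer_cj]; exact cj_mono g (m0.trans h.nT')
  · have := h.one (mem_cj.1 x1).1 (h.com (mem_cj.1 x2).2) (h.toWf.com' (mem_cj.1 x1).2)
    rwa [← inv_inv g, inv_inv g⁻¹, conj_eq_one_iff] at this
  · have c2 := c1.trans (cj_mono g m0)
    refine (commutator_mono c2 c2).trans ?_
    rw [commutator_cj, ← cj_sup]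
    exact cj_mono g h.abS

theorem b1 (hE : E ≤ S) (h1 : S ⊓ L ≤ E) (h2 : S ⊓ M ≤ E) (hg : g ∈ 𝐍[E]) :
    (cj(g, S ⊓ L) ≤ 𝐂[S ⊓ M] ∧ cj(g, S ⊓ M) ≤ 𝐂[S ⊓ L] ∧ cj(g, Zt (S ⊓ L)) ≤ 𝐂[M]) ∨
    (cj(g, S ⊓ L) ≤ 𝐂[S ⊓ L] ∧ cj(g, S ⊓ M) ≤ 𝐂[S ⊓ M] ∧ cj(g, Zt (S ⊓ L)) ≤ 𝐂[L]) := by
  have m0 : E ⊓ 𝐍[L] ≤ S ⊓ 𝐍[L] := inf_le_inf_right _ hE
  obtain ⟨a1, a2⟩ := h.b0 hE h1 h2 (inv_mem hg)
  have f1 : cj(g, S ⊓ L) ≤ S ⊓ 𝐍[L] := (cj_le_iff.2 a1).trans m0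
  have f2 : cj(g, S ⊓ M) ≤ S ⊓ 𝐍[L] := (cj_le_iff.2 a2).trans m0
  have d1 : cj(g, S ⊓ L) ≤ 𝐂[S ⊓ L] ∨ cj(g, S ⊓ M) ≤ 𝐂[S ⊓ L] :=
    (h.b1s hE h1 h2 hg).symm.imp And.right And.right
  have d2 : cj(g, S ⊓ L) ≤ 𝐂[S ⊓ M] ∨ cj(g, S ⊓ M) ≤ 𝐂[S ⊓ M] :=
    (h.symm.b1s hE h2 h1 hg).imp And.right And.right
  have z1 : cj(g, Zt (S ⊓ L)) ≤ ⁅cj(g, S ⊓ L), cj(g, S ⊓ L)⁆ := by
    rw [commutator_cj]; exact cj_mono g h.c2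
  have z2 : cj(g, Zt (S ⊓ M)) ≤ ⁅cj(g, S ⊓ M), cj(g, S ⊓ M)⁆ := by
    rw [commutator_cj]; exact cj_mono g h.symm.c2
  rcases d1 with r | r <;> rcases d2 with r' | r'
  · have m := conj_mem_cj g h.zZ
    exact absurd (conj_eq_one_iff.1 (h.one (f1 (conj_mem_cj g h.zT)).1
      (h.symm.der (h.S0 ▸ f1) r (z1 m)) (h.der f1 r' (z1 m)))) h.z1
  · exact Or.inr ⟨r, r', z1.trans (h.symm.der (h.S0 ▸ f1) r)⟩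
  · exact Or.inl ⟨r', r, z1.trans (h.der f1 r')⟩
  · have m := conj_mem_cj g h.symm.zZ
    exact absurd (conj_eq_one_iff.1 (h.one (f2 (conj_mem_cj g h.symm.zT)).1
      (h.symm.der (h.S0 ▸ f2) r (z2 m)) (h.der f2 r' (z2 m)))) h.symm.z1

theorem b1z (hE : E ≤ S) (h1 : S ⊓ L ≤ E) (h2 : S ⊓ M ≤ E) (hg : g ∈ 𝐍[E]) {x : G}
    (hx : g * x * g⁻¹ ∈ S) (c : x * z = z * x) : g * x * g⁻¹ ∈ 𝐍[L] :=
  h.cen (h.SG hx) (hE (conj_mem_of_mem_normalizer hg (h1 h.zT)))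
    ((h.b1 hE h1 h2 hg).symm.imp (fun r => r.2.2 (conj_mem_cj g h.zZ))
      fun r => r.2.2 (conj_mem_cj g h.zZ)) (fun e => h.z1 (conj_eq_one_iff.1 e)) (conj_comm c)

/-- PROOF. For `e ∈ E⁰`, `e^g ∈ E` commutes with `1 ≠ z^g ∈ S ⊓ (C(L) ∪ C(M))` (`b1`), so lies in
`N(L)` (`cen`); `mem_normalizer_of_cj_le`. -/
theorem b2 (hE : E ≤ S) (h1 : S ⊓ L ≤ E) (h2 : S ⊓ M ≤ E) (hg : g ∈ 𝐍[E]) :
    g ∈ 𝐍[E ⊓ 𝐍[L]] :=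
  mem_normalizer_of_cj_le (cj_le_iff_forall.2 fun _ he => ⟨conj_mem_of_mem_normalizer hg he.1,
    h.b1z hE h1 h2 hg (hE (conj_mem_of_mem_normalizer hg he.1)) ((h.cz (hE he.1)).2 he.2)⟩)

/-- PROOF. `isSyl_of_isSyl_normalizer`-type argument: let `S⁰ ≤ R ≤ C(z)` be a `2`-group normalising
`S⁰`, `x ∈ R`.  `S` is Sylow in `N(S⁰)` (`S ≤ N(S⁰)` by `norm0`; a `2`-group over `S` contains `t`, so
lies in `G1` by `Uq.le`), so `n R n⁻¹ ≤ S` with `n ∈ N(S⁰)`.  `b1` with `E = S⁰`: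
`1 ≠ z^n ∈ S ⊓ (C(L) ∪ C(M))`, `x^n ∈ S` commutes with it, so `x^n ∈ S⁰` (`cen`), `x ∈ S⁰`. -/
theorem sylz (uq : StdL.Uq (G1 L M) t) : IsSyl 2 (S ⊓ 𝐍[L]) (centralizer {z}) := by
  have p0 : IsPGroup 2 (S ⊓ 𝐍[L] : Subgroup G) := h.syl.pgrp.to_le inf_le_left
  have hS : IsSyl 2 S 𝐍[S ⊓ 𝐍[L]] :=
    ⟨fun s hs => h.toWf.norm0 h.SG (h.SG hs) (le_normalizer hs), h.syl.pgrp, fun R hR a b =>
      (h.syl.eq hR a (uq.le hR (a h.tS))).le⟩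
  refine isSyl_of_isSyl_normalizer ⟨le_inf (fun s hs => mem_z.2 ((h.cz hs.1).2 hs.2))
    le_normalizer, p0, fun R hR a b x hx => ?_⟩
  obtain ⟨n, hn, e⟩ := hS.exists_cj_le hR (b.trans inf_le_right)
  have m := e (conj_mem_cj n hx)
  have := inv_conj_mem_of_mem_normalizer hn (⟨m, h.b1z inf_le_left h.T0 h.T0' hn m
    (mem_z.1 (b hx).1)⟩ : n * x * n⁻¹ ∈ S ⊓ 𝐍[L])
  rwa [show n⁻¹ * (n * x * n⁻¹) * n = x by group] at this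

/-- no conjugate of `z` commutes with `t`.  PROOF. Otherwise `d = g⁻¹ t g ∈ C(z)`; by `sylz`,
`c d c⁻¹ ∈ S⁰ ≤ G1 ⊓ N(L)` for a `c ∈ C(z)`, so `c g⁻¹ ∈ G1` by `uq`, and `conj_iff` gives
`t ∈ N(L)`, against `tN`. -/
theorem nz (uq : StdL.Uq (G1 L M) t) (g : G) : g * z * g⁻¹ * t ≠ t * (g * z * g⁻¹) := by
  intro e
  have d2 : g⁻¹ * t * g⁻¹⁻¹ * (g⁻¹ * t * g⁻¹⁻¹) = 1 := conj_sq h.tt
  obtain ⟨c, -, k⟩ := (h.sylz uq).exists_cj_le (StdL.isPGroup_zp d2)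
    (zpowers_le.2 (mem_z.2 (by rw [inv_inv]; exact lb_com.2 e.symm)))
  have m := k (conj_mem_cj c (mem_zpowers _))
  rw [show c * (g⁻¹ * t * g⁻¹⁻¹) * c⁻¹ = c * g⁻¹ * t * (c * g⁻¹)⁻¹ by group] at m
  exact h.toWf.tN ((h.toWf.conj_iff (uq.2.2 _ (h.SG m.1)) h.toWf.tG).1 m.2)

end Cx

end Cfsg.Agent.WfT
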